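import Cfsg.Agent.DegreeThreeP.Setup
import Cfsg.Agent.ClassPairs.Basic
import Cfsg.Agent.Perm.PermChar
import Cfsg.Agent.SmallValue.Tools
import Cfsg.Agent.Characters.Linear
import Cfsg.Agent.PrincipalBlock.Basic
import Cfsg.Agent.BlocksCyclic.Values

/-!
# Degree `3 p`: the constituents of the permutation character

The principal block consists of the trivial character, one character `χ` of degree `f` and
`(p - 1) / 2` exceptional characters, which are `χ + δ` on the p-regular elements.  The permutation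
character vanishes on the p-singular elements, so it is `1 + χ` with `f = 3p - 1`, or `1 + χ + ξ`
with `f = 2p - 1` and `ξ` of degree `p`, or `1 + θ₁ + θ₂` with `p = 5`, or `f = p - 1`.
-/

set_option autoImplicit false
set_option linter.unusedSectionVars false
set_option linter.style.haveILetI false

namespace CfsgLib.DegreeThreeP

open MulAction CfsgLib.Characters
open scoped ComplexConjugate

universe u v

/-- The trivial character. -/
noncomputable def one (G : Type u) [Group G] [Fintype G] : Cfsg.IrrCharacter G :=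
  ⟨fun _ => 1, isIrr_one⟩

@[simp] theorem one_apply {G : Type u} [Group G] [Fintype G] (g : G) :
    (one G : G → ℂ) g = 1 := rfl

/-- The number of fixed points. -/
noncomputable def fx {G : Type u} [Group G] (Ω : Type v) [MulAction G Ω] (g : G) : ℕ :=
  Nat.card (fixedBy Ω g)

/-- The principal block: a character `χ` of degree `f` and the exceptional set `Y`. -/
structure Exc (p : ℕ) {G : Type u} [Group G] [Fintype G] (δ : ℤ) (f : ℕ)
    (χ : Cfsg.IrrCharacter G) (Y : Finset (Cfsg.IrrCharacter G)) : Prop where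
  sign : δ = 1 ∨ δ = -1
  ne : χ ≠ one G
  chi_notMem : χ ∉ Y
  one_notMem : one G ∉ Y
  card : 2 * Y.card + 1 = p
  degree : (χ : G → ℂ) 1 = f
  sing : ∀ g : G, p ∣ orderOf g → (χ : G → ℂ) g = δ
  exc : ∀ θ ∈ Y, ∀ g : G, ¬ p ∣ orderOf g → (θ : G → ℂ) g = (χ : G → ℂ) g + δ
  exc_sing : ∀ g : G, p ∣ orderOf g → ∑ θ ∈ Y, (θ : G → ℂ) g = -δ
  out : ∀ ψ : Cfsg.IrrCharacter G, ψ ≠ one G → ψ ≠ χ → ψ ∉ Y →
    ∀ g : G, p ∣ orderOf g → (ψ : G → ℂ) g = 0
  faith : ∀ g : G, (χ : G → ℂ) g = (χ : G → ℂ) 1 → g = 1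

theorem conj_nat_cast (n : ℕ) : conj (n : ℂ) = n := map_natCast _ n

section

variable {p : ℕ} [hpf : Fact p.Prime] {G : Type u} [Group G] [Fintype G] {Ω : Type v} [Fintype Ω]
  [MulAction G Ω] {P : Sylow p G} (h : Hyp p Ω P)

include h

theorem Hyp.fx_singular {g : G} (hg : p ∣ orderOf g) : fx Ω g = 0 := by
  rw [fx, Nat.card_eq_zero]
  exact Or.inl ⟨fun ⟨b, hb⟩ => h.singular_free hg b hb⟩

theorem Hyp.commutator_eq_top : commutator G = ⊤ := by
  rcases h.eq_bot_or_eq_top (commutator G) with hb | hb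
  · exfalso
    refine h.nonabelian ⟨⟨fun a b => ?_⟩⟩
    have hab := Subgroup.commutator_mem_commutator (Subgroup.mem_top a) (Subgroup.mem_top b)
    rw [← commutator_def, hb, Subgroup.mem_bot, commutatorElement_eq_one_iff_mul_comm] at hab
    exact hab
  · exact hb

theorem Hyp.eq_one_of_degree_one {ψ : Cfsg.IrrCharacter G} (hd : (ψ : G → ℂ) 1 = (1 : ℕ)) :
    ψ = one G := by
  refine Subtype.ext (funext fun g => ?_)
  obtain ⟨μ, hμ, -, -, hprod⟩ :=
    CfsgLib.SmallValue.exists_eigen (isCharacter_of_isIrr ψ.2) hd g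
  have h1 := hμ 1
  rw [pow_one, Fin.sum_univ_one, pow_one] at h1
  have h2 := hprod h.commutator_eq_top
  rw [Fin.prod_univ_one] at h2
  rw [h1, h2]
  rfl

theorem Hyp.faithful_of_ne {ψ : Cfsg.IrrCharacter G} (hne : ψ ≠ one G) :
    ∀ g : G, (ψ : G → ℂ) g = (ψ : G → ℂ) 1 → g = 1 := by
  obtain ⟨d, ρ, hρ, hρc⟩ := ψ.2
  intro g hg
  rw [← hρc, Representation.char_one, char_eq_finrank_iff] at hg
  have hgk : g ∈ ρ.ker := hg
  rcases h.eq_bot_or_eq_top ρ.ker with hb | hb
  · rwa [hb, Subgroup.mem_bot] at hgk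
  · exfalso
    have hall : ∀ k : G, (ψ : G → ℂ) k = (ψ : G → ℂ) 1 := by
      intro k
      rw [← hρc, Representation.char_one, char_eq_finrank_iff]
      have : k ∈ ρ.ker := by rw [hb]; trivial
      exact this
    have h0 := classInner_isIrr_ne ψ.2 (one G).2 (fun e => hne (Subtype.ext e))
    rw [Cfsg.classInner, Finset.sum_congr rfl (g := fun _ => (ψ : G → ℂ) 1)
      (fun k _ => by rw [hall k]; simp), Finset.sum_const, nsmul_eq_mul, Finset.card_univ,
      ← Nat.card_eq_fintype_card, ← mul_assoc, inv_mul_cancel₀ natCard_ne_zero, one_mul] at h0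
    exact irr_one_ne_zero ψ.2 h0

/-- The principal block. -/
theorem Hyp.exists_exc : ∃ (δ : ℤ) (f : ℕ) (χ : Cfsg.IrrCharacter G)
    (Y : Finset (Cfsg.IrrCharacter G)), Exc p δ f χ Y ∧ 1 < f ∧ (f : ℤ) ≡ δ [ZMOD p] := by
  classical
  have hp : p.Prime := hpf.out
  have h5 := h.five
  obtain ⟨x, t, hxP, hx1, -, -⟩ := h.exists_inverting
  obtain ⟨M, hM⟩ := CfsgLib.Blocks.exists_isPModular p hp
  haveI : M.IsPrime := CfsgLib.Blocks.IsPModular.isPrime hM
  set B := Cfsg.principalBlock M G with hBdef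
  obtain ⟨X, Y, hB, hdisj, hXc, hYc, εX, ε, hX, hε, hYd, hYreg, hid⟩ :=
    Cfsg.Agent.S4441.result p M hM (by omega) P h.card_P 2 (by rw [h.centralizer_P, h.relIndex_P])
  have hout : ∀ w ∈ (P : Subgroup G), w ≠ 1 → ∀ ψ : Cfsg.IrrCharacter G, ψ ∉ B →
      (ψ : G → ℂ) w = 0 := by
    intro w hw hw1
    have hall := sum_irr_mul_conj_of_isConj (IsConj.refl w)
    have hblk := CfsgLib.BlocksCyclic.sum_principal_mul_conj h.card_P hw hw1 hM hw
    rw [h.centralizer_mem hw hw1, h.card_P, ← Finset.sum_filter_add_sum_filter_not Finset.univ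
      (fun ψ => ψ ∈ B)] at hall
    rw [if_pos (IsConj.refl w), ← Finset.sum_filter, ← hBdef] at hblk
    rw [hblk, add_eq_left] at hall
    intro ψ hψ
    have hre := congrArg Complex.re hall
    simp only [Complex.mul_conj, Complex.re_sum, Complex.ofReal_re, Complex.zero_re] at hre
    exact Complex.normSq_eq_zero.1 ((Finset.sum_eq_zero_iff_of_nonneg
      fun ψ _ => Complex.normSq_nonneg _).1 hre ψ (Finset.mem_filter.2 ⟨Finset.mem_univ _, hψ⟩))
  have hval : ∀ ψ ∈ X, ∀ w ∈ (P : Subgroup G), w ≠ 1 → (ψ : G → ℂ) w = (εX ψ : ℂ) := by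
    intro ψ hψ w hw hw1
    have := (hX ψ hψ).2.2 w hw hw1 1 (one_mem _) (by rw [orderOf_one]; exact hp.not_dvd_one)
    rwa [mul_one] at this
  have hdeg1 : Cfsg.charDegree (one G : G → ℂ) = 1 := by simp [Cfsg.charDegree]
  have hone : one G ∉ Y := by
    intro hY
    have h' := hYd _ hY
    rw [hdeg1, Int.modEq_iff_dvd] at h'
    rcases hε with rfl | rfl
    · have := Int.le_of_dvd (by norm_num) h'; omega
    · have := Int.le_of_dvd (by norm_num) (dvd_neg.2 h'); omega
  have htB : one G ∈ B := CfsgLib.PrincipalBlock.trivChar_mem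
  have htX : one G ∈ X := ((Set.mem_union _ _ _).1 (hB ▸ htB)).resolve_right hone
  obtain ⟨χ, hχX, hχne⟩ : ∃ χ ∈ X, χ ≠ one G := by
    by_contra hcon
    push Not at hcon
    have : X = {one G} := Set.eq_singleton_iff_unique_mem.2 ⟨htX, hcon⟩
    rw [Nat.card_coe_set_eq, this, Set.ncard_singleton] at hXc
    omega
  have hXeq : X = {one G, χ} := (Set.eq_of_subset_of_ncard_le
    (Set.insert_subset htX (Set.singleton_subset_iff.2 hχX))
    (by rw [Set.ncard_pair (Ne.symm hχne), ← Nat.card_coe_set_eq, hXc]) (Set.toFinite _)).symm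
  have hε1 : εX (one G) = 1 := by
    have h' := hval _ htX x hxP hx1
    rw [one_apply] at h'
    exact_mod_cast h'.symm
  set δ := εX χ with hδdef
  have hδ : δ = 1 ∨ δ = -1 := (hX χ hχX).1
  obtain ⟨f, hf0, hf, hfd, -⟩ := CfsgLib.ClassPairs.exists_irr_degree χ
  have hfmod : (f : ℤ) ≡ δ [ZMOD p] := hfd ▸ (hX χ hχX).2.1
  have hf1 : 1 < f := by
    by_contra hle
    exact hχne (h.eq_one_of_degree_one (by rw [hf, show f = 1 by omega]))
  have hgen : ∀ θ ∈ Y, ∀ g : G, ¬ p ∣ orderOf g →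
      (ε : ℂ) * (θ : G → ℂ) g = 1 + (δ : ℂ) * (χ : G → ℂ) g := by
    intro θ hθ g hg
    rw [hid θ hθ g hg, hXeq, finsum_mem_pair (Ne.symm hχne), hε1, ← hδdef]
    simp
  set YF := Finset.univ.filter (fun ψ : Cfsg.IrrCharacter G => ψ ∈ Y) with hYF
  have hcard : 2 * YF.card + 1 = p := by
    rw [hYF, ← Fintype.card_subtype, ← Nat.card_eq_fintype_card]
    have : Nat.card {ψ : Cfsg.IrrCharacter G // ψ ∈ Y} = (p - 1) / 2 := hYc
    rw [this]
    have := h.odd
    omega
  -- the two signs agree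
  have hεδ : ε = δ := by
    obtain ⟨θ, hθ⟩ : YF.Nonempty := Finset.card_pos.1 (by omega)
    have hθY := (Finset.mem_filter.1 hθ).2
    obtain ⟨d, hd0, hd, -, -⟩ := CfsgLib.ClassPairs.exists_irr_degree θ
    have h1 := hgen θ hθY 1 (by rw [orderOf_one]; exact hp.not_dvd_one)
    rw [hd, hf] at h1
    have h2 : ε * (d : ℤ) = 1 + δ * (f : ℤ) := by exact_mod_cast h1
    rcases hε with rfl | rfl <;> rcases hδ with h' | h' <;> rw [h'] at h2 ⊢ <;> omega
  have hδ2 : (δ : ℂ) * δ = 1 := by rcases hδ with h' | h' <;> rw [h'] <;> norm_num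
  have hexc : ∀ θ ∈ YF, ∀ g : G, ¬ p ∣ orderOf g → (θ : G → ℂ) g = (χ : G → ℂ) g + δ := by
    intro θ hθ g hg
    have h1 := hgen θ (Finset.mem_filter.1 hθ).2 g hg
    rw [hεδ] at h1
    linear_combination (δ : ℂ) * h1 - ((θ : G → ℂ) g - (χ : G → ℂ) g) * hδ2
  have hcχ : χ ∉ YF := fun hmem =>
    Set.disjoint_left.1 hdisj hχX (Finset.mem_filter.1 hmem).2
  have hcone : one G ∉ YF := fun hmem => hone (Finset.mem_filter.1 hmem).2
  have houtF : ∀ ψ : Cfsg.IrrCharacter G, ψ ≠ one G → ψ ≠ χ → ψ ∉ YF → ψ ∉ B := by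
    intro ψ h1 h2 h3 hψ
    rw [hBdef, hB, hXeq] at hψ
    rcases hψ with hψ | hψ
    · rcases hψ with rfl | hψ
      · exact h1 rfl
      · exact h2 hψ
    · exact h3 (Finset.mem_filter.2 ⟨Finset.mem_univ _, hψ⟩)
  -- the exceptional sum at a nonidentity element of `P`
  have hexw : ∀ w ∈ (P : Subgroup G), w ≠ 1 → ∑ θ ∈ YF, (θ : G → ℂ) w = -(δ : ℂ) := by
    intro w hw hw1
    have hs := sum_degree_mul w
    rw [if_neg hw1, ← Finset.sum_subset (Finset.subset_univ ({one G, χ} ∪ YF)) ?_,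
      Finset.sum_union (by
        rw [Finset.disjoint_left]
        intro ψ hψ hψY
        simp only [Finset.mem_insert, Finset.mem_singleton] at hψ
        rcases hψ with rfl | rfl
        · exact hcone hψY
        · exact hcχ hψY), Finset.sum_pair (Ne.symm hχne)] at hs
    · rw [Finset.sum_congr rfl (fun θ hθ => by
        rw [hexc θ hθ 1 (by rw [orderOf_one]; exact hp.not_dvd_one)]),
        ← Finset.mul_sum, hf, one_apply, one_apply, hval χ hχX w hw hw1, ← hδdef] at hs
      have hne0 : ((f : ℂ) + δ) ≠ 0 := by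
        intro h0
        have : (f : ℤ) + δ = 0 := by exact_mod_cast h0
        rcases hδ with h' | h' <;> omega
      refine mul_left_cancel₀ hne0 ?_
      linear_combination hs + hδ2
    · intro ψ _ hψ
      simp only [Finset.mem_union, Finset.mem_insert, Finset.mem_singleton, not_or] at hψ
      rw [hout w hw hw1 ψ (houtF ψ hψ.1.1 hψ.1.2 hψ.2), mul_zero]
  refine ⟨δ, f, χ, YF, ⟨hδ, hχne, hcχ, hcone, hcard, hf, ?_, hexc, ?_, ?_,
    h.faithful_of_ne hχne⟩, hf1, hfmod⟩
  · intro g hg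
    obtain ⟨w, hw, hw1, hc⟩ := h.singular_conj hg
    rw [classFunction_isConj (isClassFunction_of_isIrr χ.2) hc, hval χ hχX w hw hw1]
  · intro g hg
    obtain ⟨w, hw, hw1, hc⟩ := h.singular_conj hg
    rw [← hexw w hw hw1]
    exact Finset.sum_congr rfl fun θ _ => classFunction_isConj (isClassFunction_of_isIrr θ.2) hc
  · intro ψ h1 h2 h3 g hg
    obtain ⟨w, hw, hw1, hc⟩ := h.singular_conj hg
    rw [classFunction_isConj (isClassFunction_of_isIrr ψ.2) hc,
      hout w hw hw1 ψ (houtF ψ h1 h2 h3)]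

/-- The possible decompositions of the permutation character. -/
theorem Hyp.cases :
    (∃ χ : Cfsg.IrrCharacter G, Cfsg.charDegree (χ : G → ℂ) = p - 1 ∧
      ∀ g : G, (χ : G → ℂ) g = (χ : G → ℂ) 1 → g = 1) ∨
    (∃ (χ : Cfsg.IrrCharacter G) (Y : Finset (Cfsg.IrrCharacter G)),
      Exc p (-1) (3 * p - 1) χ Y ∧ ∀ g : G, (fx Ω g : ℂ) = 1 + (χ : G → ℂ) g) ∨
    (∃ (χ : Cfsg.IrrCharacter G) (Y : Finset (Cfsg.IrrCharacter G)) (ξ : Cfsg.IrrCharacter G),
      Exc p (-1) (2 * p - 1) χ Y ∧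
      ξ ≠ one G ∧ ξ ≠ χ ∧ ξ ∉ Y ∧ (ξ : G → ℂ) 1 = p ∧
      ∀ g : G, (fx Ω g : ℂ) = 1 + (χ : G → ℂ) g + (ξ : G → ℂ) g) ∨
    (p = 5 ∧ ∃ (χ : Cfsg.IrrCharacter G) (Y : Finset (Cfsg.IrrCharacter G)),
      Exc p 1 6 χ Y ∧ ∀ g : G, (fx Ω g : ℂ) = 1 + ∑ θ ∈ Y, (θ : G → ℂ) g) := by
  classical
  have hp : p.Prime := hpf.out
  have h5 := h.five
  obtain ⟨δ, f, χ, Y, hE, hf1, hfmod⟩ := h.exists_exc
  obtain ⟨x, t, hxP, hx1, -, -⟩ := h.exists_inverting
  haveI := h.trans
  haveI : Nonempty Ω := by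
    rcases isEmpty_or_nonempty Ω with he | he
    · exfalso
      have := h.card_space
      rw [Nat.card_of_isEmpty] at this
      omega
    · exact he
  obtain ⟨m, hm, hdeg, -⟩ := CfsgLib.Perm.PermChar.exists_mult (G := G) (Ω := Ω)
  have hπ : ∀ g, CfsgLib.Perm.PermChar.perm G Ω g = (fx Ω g : ℂ) := fun _ => rfl
  have hexp : ∀ g : G, (fx Ω g : ℂ) = ∑ ψ, (m ψ : ℂ) * (ψ : G → ℂ) g := by
    intro g
    rw [← hπ]
    conv_lhs => rw [character_expansion CfsgLib.Perm.PermChar.isCharacter_perm]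
    simp only [hm, Finset.sum_apply, Pi.smul_apply, smul_eq_mul]
  have hm1 : m (one G) = 1 := by
    have := hm (one G)
    rw [show (one G : G → ℂ) = fun _ => 1 from rfl,
      CfsgLib.Perm.PermChar.inner_one_of_transitive] at this
    exact_mod_cast this.symm
  obtain ⟨θ₀, hθ₀⟩ : Y.Nonempty := Finset.card_pos.1 (by have := hE.card; omega)
  set b := m θ₀ with hbdef
  have hb : ∀ θ ∈ Y, m θ = b := by
    intro θ hθ
    have he : Cfsg.classInner (CfsgLib.Perm.PermChar.perm G Ω) (θ : G → ℂ) =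
        Cfsg.classInner (CfsgLib.Perm.PermChar.perm G Ω) (θ₀ : G → ℂ) := by
      rw [Cfsg.classInner, Cfsg.classInner]
      congr 1
      refine Finset.sum_congr rfl fun g _ => ?_
      by_cases hg : p ∣ orderOf g
      · simp [hπ, h.fx_singular hg]
      · rw [hE.exc θ hθ g hg, hE.exc θ₀ hθ₀ g hg]
    rw [hm, hm] at he
    exact_mod_cast he
  set a := m χ with hadef
  set S : Finset (Cfsg.IrrCharacter G) := {one G, χ} ∪ Y with hS
  have hdisj : Disjoint ({one G, χ} : Finset (Cfsg.IrrCharacter G)) Y := by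
    rw [Finset.disjoint_left]
    intro ψ hψ hψY
    simp only [Finset.mem_insert, Finset.mem_singleton] at hψ
    rcases hψ with rfl | rfl
    · exact hE.one_notMem hψY
    · exact hE.chi_notMem hψY
  have hsplit : ∀ g : G, (fx Ω g : ℂ) = 1 + (a : ℂ) * (χ : G → ℂ) g +
      (b : ℂ) * ∑ θ ∈ Y, (θ : G → ℂ) g + ∑ ψ ∈ Sᶜ, (m ψ : ℂ) * (ψ : G → ℂ) g := by
    intro g
    rw [hexp g, ← Finset.sum_add_sum_compl S, hS, Finset.sum_union hdisj,
      Finset.sum_pair (Ne.symm hE.ne), hm1, Finset.mul_sum,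
      Finset.sum_congr rfl (s₁ := Y) (g := fun θ => (b : ℂ) * (θ : G → ℂ) g)
        (fun θ hθ => by rw [hb θ hθ])]
    simp [hadef]
  have hmem : ∀ ψ ∈ Sᶜ, ψ ≠ one G ∧ ψ ≠ χ ∧ ψ ∉ Y := by
    intro ψ hψ
    simp only [hS, Finset.mem_compl, Finset.mem_union, Finset.mem_insert, Finset.mem_singleton,
      not_or] at hψ
    exact ⟨hψ.1.1, hψ.1.2, hψ.2⟩
  have hxo : p ∣ orderOf x := by rw [h.orderOf_mem hxP hx1]
  -- the value at `x`
  have hab : (1 : ℤ) + δ * a - δ * b = 0 := by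
    have hh := hsplit x
    rw [h.fx_singular hxo, hE.sing x hxo, hE.exc_sing x hxo,
      Finset.sum_eq_zero (s := Sᶜ) (fun ψ hψ => by
        rw [hE.out ψ (hmem ψ hψ).1 (hmem ψ hψ).2.1 (hmem ψ hψ).2.2 x hxo, mul_zero]),
      Nat.cast_zero, add_zero] at hh
    have : ((0 : ℤ) : ℂ) = ((1 + δ * a - δ * b : ℤ) : ℂ) := by
      push_cast
      linear_combination hh
    exact_mod_cast this.symm
  -- degrees of the other constituents
  choose d hd0 hd hdd _hdg using fun ψ : Cfsg.IrrCharacter G =>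
    CfsgLib.ClassPairs.exists_irr_degree ψ
  have hdp : ∀ ψ ∈ Sᶜ, p ∣ d ψ := by
    intro ψ hψ
    haveI : Fintype (P : Subgroup G) := Fintype.ofFinite _
    obtain ⟨k, hk⟩ : ∃ k : ℕ, ∑ w : (P : Subgroup G), (ψ : G → ℂ) w =
        (Nat.card (P : Subgroup G) : ℂ) * k := by
      obtain ⟨k, hk⟩ := classInner_character_irr
        (isCharacter_restrict (P : Subgroup G) (isCharacter_of_isIrr ψ.2))
        (isIrr_one (G := (P : Subgroup G)))
      refine ⟨k, ?_⟩
      rw [← hk, Cfsg.classInner, ← mul_assoc, mul_inv_cancel₀ natCard_ne_zero, one_mul]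
      exact Finset.sum_congr rfl fun w _ => by simp
    rw [Finset.sum_eq_single (1 : (P : Subgroup G)) (fun w _ hw => by
      have hw1 : (w : G) ≠ 1 := fun e => hw (Subtype.ext e)
      exact hE.out ψ (hmem ψ hψ).1 (hmem ψ hψ).2.1 (hmem ψ hψ).2.2 w
        (by rw [h.orderOf_mem w.2 hw1])) (by simp), h.card_P, OneMemClass.coe_one, hd ψ] at hk
    exact ⟨k, by exact_mod_cast hk⟩
  obtain ⟨e, he⟩ : p ∣ ∑ ψ ∈ Sᶜ, m ψ * d ψ :=
    Finset.dvd_sum fun ψ hψ => dvd_mul_of_dvd_right (hdp ψ hψ) _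
  have hdegeq : (3 * p : ℤ) = 1 + a * f + b * (Y.card * (f + δ)) + p * e := by
    have hh := hsplit 1
    rw [hE.degree, Finset.sum_congr rfl (fun θ hθ => hE.exc θ hθ 1
      (by rw [orderOf_one]; exact hp.not_dvd_one)), Finset.sum_const, hE.degree, nsmul_eq_mul,
      Finset.sum_congr rfl (s₁ := Sᶜ) (g := fun ψ => ((m ψ * d ψ : ℕ) : ℂ))
        (fun ψ _ => by rw [hd ψ, Nat.cast_mul]), ← Nat.cast_sum, he] at hh
    have h1 : fx Ω (1 : G) = 3 * p := by
      have hp1 := hπ (1 : G)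
      rw [CfsgLib.Perm.PermChar.perm_one, h.card_space] at hp1
      exact_mod_cast hp1.symm
    rw [h1] at hh
    have : (((3 * p : ℤ)) : ℂ) = ((1 + a * f + b * (Y.card * (f + δ)) + p * e : ℤ) : ℂ) := by
      push_cast
      push_cast at hh
      linear_combination hh
    exact_mod_cast this
  have hcard := hE.card
  rcases hE.sign with rfl | rfl
  · -- the sign `+1`
    have hba : b = a + 1 := by omega
    obtain ⟨j, hj⟩ := Int.modEq_iff_dvd.1 hfmod
    have hfp : p + 1 ≤ f := by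
      by_contra hlt
      have h1 : (p : ℤ) * j ≤ 0 := by omega
      have h2 : -(p : ℤ) < (p : ℤ) * j := by omega
      have hj0 : j = 0 := by
        rcases lt_trichotomy j 0 with h' | h' | h'
        · nlinarith
        · exact h'
        · nlinarith
      rw [hj0] at hj
      omega
    have hp' : p = 5 := by
      by_contra hne
      have h7 : 7 ≤ p := by
        by_contra hlt
        have : p = 6 := by omega
        subst this
        exact (by norm_num : ¬ (6 : ℕ).Prime) hp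
      have hY3 : (3 : ℤ) ≤ Y.card := by omega
      have hb1 : (1 : ℤ) ≤ b := by omega
      have h1 : (3 : ℤ) * (p + 2) ≤ (Y.card : ℤ) * (f + 1) :=
        mul_le_mul hY3 (by omega) (by omega) (by omega)
      have h2 : (Y.card : ℤ) * (f + 1) ≤ b * (Y.card * (f + 1)) :=
        le_mul_of_one_le_left (by positivity) hb1
      have h3 : (0 : ℤ) ≤ a * f + p * e := by positivity
      linarith
    subst hp'
    have hY2 : Y.card = 2 := by omega
    rw [hY2, hba] at hdegeq
    push_cast at hdegeq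
    have ha0 : a = 0 := by
      by_contra ha
      have : (1 : ℤ) * f ≤ a * f := mul_le_mul_of_nonneg_right (by omega) (by omega)
      have : (2 : ℤ) * (2 * (f + 1)) ≤ (a + 1) * (2 * (f + 1)) :=
        mul_le_mul_of_nonneg_right (by omega) (by omega)
      omega
    rw [ha0] at hdegeq
    push_cast at hdegeq
    have hf6 : f = 6 ∧ e = 0 := by omega
    obtain ⟨rfl, rfl⟩ := hf6
    refine Or.inr (Or.inr (Or.inr ⟨rfl, χ, Y, hE, fun g => ?_⟩))
    rw [mul_zero] at he
    rw [hsplit g, ha0, hba, ha0, Finset.sum_eq_zero (s := Sᶜ) fun ψ hψ => ?_]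
    · push_cast; ring
    · have := Finset.sum_eq_zero_iff.1 he ψ hψ
      rcases Nat.mul_eq_zero.1 this with h0 | h0
      · rw [h0, Nat.cast_zero, zero_mul]
      · exact absurd h0 (hd0 ψ).ne'
  · -- the sign `-1`
    have hba : a = b + 1 := by omega
    obtain ⟨j, hj⟩ := Int.modEq_iff_dvd.1 hfmod
    have hbf : (0 : ℤ) ≤ b * (Y.card * ((f : ℤ) + -1)) := by
      have : (0 : ℤ) ≤ (f : ℤ) + -1 := by omega
      positivity
    have hpe : (0 : ℤ) ≤ (p : ℤ) * e := by positivity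
    have haf : (f : ℤ) ≤ a * f := le_mul_of_one_le_left (by omega) (by omega)
    have hf3 : f = p - 1 ∨ f = 2 * p - 1 ∨ f = 3 * p - 1 := by
      have h1 : (p : ℤ) * j < 0 := by omega
      have h2 : -(3 * (p : ℤ)) ≤ (p : ℤ) * j := by omega
      have hj1 : j ≤ -1 := by nlinarith
      have hj2 : -3 ≤ j := by nlinarith
      interval_cases j <;> omega
    rcases hf3 with rfl | rfl | rfl
    · exact Or.inl ⟨χ, by simp [Cfsg.charDegree, hE.degree], hE.faith⟩
    · have ha1 : a = 1 := by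
        by_contra ha
        have : (2 : ℤ) * ((2 * p - 1 : ℕ) : ℤ) ≤ a * ((2 * p - 1 : ℕ) : ℤ) :=
          mul_le_mul_of_nonneg_right (by omega) (by omega)
        omega
      have hb0 : b = 0 := by omega
      rw [ha1, hb0] at hdegeq
      push_cast at hdegeq
      have he1 : e = 1 := by
        have : (p : ℤ) * e = p * 1 := by omega
        exact_mod_cast mul_left_cancel₀ (by omega : (p : ℤ) ≠ 0) this
      rw [he1, mul_one] at he
      obtain ⟨ξ, hξS, hξ0⟩ := Finset.exists_ne_zero_of_sum_ne_zero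
        (show ∑ ψ ∈ Sᶜ, m ψ * d ψ ≠ 0 by rw [he]; exact hp.ne_zero)
      have hrest : ∀ ψ ∈ Sᶜ, ψ ≠ ξ → m ψ * d ψ = 0 := by
        intro ψ hψ hne
        by_contra h0
        have hsub : ({ξ, ψ} : Finset (Cfsg.IrrCharacter G)) ⊆ Sᶜ :=
          Finset.insert_subset hξS (Finset.singleton_subset_iff.2 hψ)
        have h2 := Finset.sum_le_sum_of_subset (f := fun ψ => m ψ * d ψ) hsub
        rw [he, Finset.sum_pair (Ne.symm hne)] at h2
        have h3 : p ≤ m ξ * d ξ :=
          Nat.le_of_dvd (Nat.pos_of_ne_zero hξ0) (dvd_mul_of_dvd_right (hdp ξ hξS) _)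
        omega
      have hξp : m ξ * d ξ = p := by
        rw [← he]
        exact (Finset.sum_eq_single ξ hrest (fun h => absurd hξS h)).symm
      have hdξ : d ξ = p := Nat.dvd_antisymm (Dvd.intro_left _ hξp) (hdp ξ hξS)
      have hmξ : m ξ = 1 := by
        rw [hdξ] at hξp
        exact Nat.eq_of_mul_eq_mul_right hp.pos (by rw [hξp, one_mul])
      obtain ⟨h1, h2, h3⟩ := hmem ξ hξS
      refine Or.inr (Or.inr (Or.inl ⟨χ, Y, ξ, hE, h1, h2, h3, by rw [hd ξ, hdξ], fun g => ?_⟩))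
      rw [hsplit g, ha1, hb0, Finset.sum_eq_single ξ ?_ (fun h => absurd hξS h), hmξ]
      · push_cast; ring
      · intro ψ hψ hne
        rcases Nat.mul_eq_zero.1 (hrest ψ hψ hne) with h0 | h0
        · rw [h0, Nat.cast_zero, zero_mul]
        · exact absurd h0 (hd0 ψ).ne'
    · have ha1 : a = 1 := by
        by_contra ha
        have : (2 : ℤ) * ((3 * p - 1 : ℕ) : ℤ) ≤ a * ((3 * p - 1 : ℕ) : ℤ) :=
          mul_le_mul_of_nonneg_right (by omega) (by omega)
        omega
      have hb0 : b = 0 := by omega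
      rw [ha1, hb0] at hdegeq
      push_cast at hdegeq
      have he0 : e = 0 := by
        have : (p : ℤ) * e = 0 := by omega
        rcases mul_eq_zero.1 this with h0 | h0 <;> omega
      rw [he0, mul_zero] at he
      refine Or.inr (Or.inl ⟨χ, Y, hE, fun g => ?_⟩)
      rw [hsplit g, ha1, hb0, Finset.sum_eq_zero (s := Sᶜ) fun ψ hψ => ?_]
      · push_cast; ring
      · have := Finset.sum_eq_zero_iff.1 he ψ hψ
        rcases Nat.mul_eq_zero.1 this with h0 | h0
        · rw [h0, Nat.cast_zero, zero_mul]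
        · exact absurd h0 (hd0 ψ).ne'

end

end CfsgLib.DegreeThreeP
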