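import Cfsg.Agent.DegreeThreeP.CaseThree
import Cfsg.Agent.PrimeDegreeTwoP.Core
import Cfsg.Agent.CAGroups.Simple
import Mathlib.GroupTheory.GroupAction.Primitive

/-!
# Degree `3 p`: the cases `f = p - 1` and `1 + χ` with `p ≡ 1` in a primitive group

`SL(2, 2ᵃ)` has no maximal subgroup of index `3 (2ᵃ + 1)`, and the groups of the
Gorenstein–Walter list do not have the order found when `π = 1 + χ` and `p ≡ 1`.
-/

set_option autoImplicit false
set_option linter.unusedSectionVars false
set_option linter.style.haveILetI false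

namespace CfsgLib.DegreeThreeP

open MulAction CfsgLib.CAGroups

universe u v

theorem commTransitive_subgroup {G : Type u} [Group G] (hG : CommTransitive G) (H : Subgroup G) :
    CommTransitive H := fun a b c ha hb hc hab hbc =>
  Subtype.ext (hG a.1 b.1 c.1 (fun e => ha (Subtype.ext e)) (fun e => hb (Subtype.ext e))
    (fun e => hc (Subtype.ext e)) (congrArg Subtype.val hab.eq) (congrArg Subtype.val hbc.eq)).eq

/-- In a commutative-transitive group the other Sylow 2-subgroups fall into regular orbits. -/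
theorem sylow_count {K : Type u} [Group K] [Finite K] (hK : CommTransitive K) (S : Sylow 2 K) :
    Nat.card (S : Subgroup K) ∣ Nat.card (Sylow 2 K) - 1 := by
  classical
  haveI := Fact.mk Nat.prime_two
  letI := Fintype.ofFinite (Sylow 2 K)
  rw [Nat.card_eq_fintype_card (α := Sylow 2 K), ← Finset.card_univ,
    ← Finset.card_erase_of_mem (Finset.mem_univ S)]
  refine card_dvd_of_free (S : Subgroup K) _ (fun g hg Q hQ => ?_) fun g hg Q hQ hgQ => ?_
  · refine Finset.mem_erase.2 ⟨fun e => Finset.ne_of_mem_erase hQ ?_, Finset.mem_univ _⟩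
    have hgS : g • S = S :=
      (Sylow.smul_eq_iff_mem_normalizer).2 (Subgroup.le_normalizer hg)
    exact MulAction.injective g (e.trans hgS.symm)
  · by_contra hg1
    have hQS : Q ≠ S := Finset.ne_of_mem_erase hQ
    have hgQ' : g ∈ (Q : Subgroup K) := by
      have hz : IsPGroup 2 (Subgroup.zpowers g) := S.2.to_le (Subgroup.zpowers_le.2 hg)
      have hf : Q ∈ fixedPoints (Subgroup.zpowers g) (Sylow 2 K) := fun w =>
        (Subgroup.zpowers_le.2 (show g ∈ stabilizer K Q from hgQ) : _) w.2
      exact hz.sylow_mem_fixedPoints_iff.1 hf (Subgroup.mem_zpowers g)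
    have hcomm : ∀ R : Sylow 2 K, g ∈ (R : Subgroup K) → ∀ x ∈ (R : Subgroup K), x ≠ 1 →
        Commute x g := by
      intro R hgR x hx hx1
      haveI : Nontrivial (R : Subgroup K) :=
        ⟨⟨⟨g, hgR⟩, 1, fun e => hg1 (congrArg Subtype.val e)⟩⟩
      haveI := R.2.center_nontrivial
      obtain ⟨⟨z, hz⟩, hz1⟩ := exists_ne (1 : Subgroup.center (R : Subgroup K))
      have hz1' : (z : K) ≠ 1 := fun e => hz1 (Subtype.ext (Subtype.ext e))
      exact hK x z g hx1 hz1' hg1 (congrArg Subtype.val (Subgroup.mem_center_iff.1 hz ⟨x, hx⟩) :)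
        (congrArg Subtype.val (Subgroup.mem_center_iff.1 hz ⟨g, hgR⟩).symm :)
    have hfix : Q ∈ fixedPoints (S : Subgroup K) (Sylow 2 K) := by
      intro x
      refine (Sylow.smul_eq_iff_mem_normalizer (g := (x : K))).2 ?_
      refine Subgroup.mem_normalizer_iff.2 fun y => ?_
      rcases eq_or_ne (x : K) 1 with hx1 | hx1
      · simp [hx1]
      have hc : ∀ w ∈ (Q : Subgroup K), (x : K) * w * (x : K)⁻¹ = w := by
        intro w hw
        rcases eq_or_ne w 1 with rfl | hw1
        · simp
        have := hK (x : K) g w hx1 hg1 hw1 (hcomm S hg x x.2 hx1) (hcomm Q hgQ' w hw hw1).symm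
        rw [this.eq, mul_inv_cancel_right]
      refine ⟨fun hy => by rwa [hc y hy], fun hy => ?_⟩
      have := hc _ hy
      have e : (x : K) * y * (x : K)⁻¹ = y := by
        have := mul_left_cancel (mul_right_cancel this)
        simpa using this
      rwa [e] at hy
    exact hQS (Sylow.ext (S.3 Q.2 (S.2.sylow_mem_fixedPoints_iff.1 hfix)))

variable {p : ℕ} [hpf : Fact p.Prime] {G : Type u} [Group G] [Fintype G] {Ω : Type v} [Fintype Ω]
  [MulAction G Ω] {P : Sylow p G} (h : Hyp p Ω P)

include h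

/-- The case `f = p - 1` is imprimitive. -/
theorem Hyp.false_of_linear {χ : Cfsg.IrrCharacter G} (hdeg : Cfsg.charDegree (χ : G → ℂ) = p - 1)
    (hfaith : ∀ g : G, (χ : G → ℂ) g = (χ : G → ℂ) 1 → g = 1) (hprim : IsPreprimitive G Ω) :
    False := by
  classical
  haveI := h.trans
  haveI := h.simple
  haveI := Fact.mk Nat.prime_two
  have h5 := h.five
  obtain ⟨a, F, _, _, hp, hF, ⟨e⟩⟩ := PrimeDegreeTwoP.core h.five P h.card_P h.centralizer_P
    h.relIndex_P χ hdeg hfaith
  haveI : CharP F 2 := charP_of_card_eq_prime_pow hF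
  have hCT : CommTransitive G := commTransitive_congr e.symm sl2_commTransitive
  set q := 2 ^ a with hq
  have hq4 : 4 ≤ q := by omega
  have hG : Nat.card G = q * (q ^ 2 - 1) := by
    rw [Nat.card_congr e.toEquiv, CfsgLib.Linear.card_SL_two, hF]
  haveI : Nontrivial Ω := Finite.one_lt_card_iff_nontrivial.1 (by rw [h.card_space]; omega)
  obtain ⟨b⟩ : Nonempty Ω := inferInstance
  have hco : IsCoatom (stabilizer G b) := (isCoatom_stabilizer_iff_preprimitive (G := G) b).2 hprim
  set H := stabilizer G b with hH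
  have hHc : Nat.card H * (3 * (q + 1)) = q * ((q + 1) * (q - 1)) := by
    rw [← Nat.sq_sub_sq q 1, one_pow, ← hG]
    conv_rhs => rw [← Subgroup.card_mul_index H]
    rw [hH, index_stabilizer_of_transitive, h.card_space, hp]
  have hH3 : 3 * Nat.card H = q * (q - 1) :=
    Nat.eq_of_mul_eq_mul_left (show 0 < q + 1 by omega) (by linear_combination hHc)
  have hv : (Nat.card H).factorization 2 = a := by
    have := congrArg (fun n : ℕ => n.factorization 2) hH3
    rw [fac_mul (by norm_num) Nat.card_pos.ne', fac_mul (by omega) (by omega),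
      fac_odd (a := 3) rfl, hq, Nat.prime_two.factorization_pow, Finsupp.single_eq_same,
      fac_odd (a := 2 ^ a - 1) ?_, zero_add, add_zero] at this
    · exact this
    · have : 2 ∣ 2 ^ a := dvd_pow_self 2 (by intro h0; rw [h0] at hq; omega)
      omega
  obtain ⟨S⟩ : Nonempty (Sylow 2 H) := inferInstance
  have hS : Nat.card (S : Subgroup H) = q := by rw [S.card_eq_multiplicity, hv]
  have h1 := sylow_count (commTransitive_subgroup hCT H) S
  rw [hS] at h1
  have hn : Nat.card (Sylow 2 H) = 1 := by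
    by_contra hne
    have h0 : 0 < Nat.card (Sylow 2 H) := Nat.card_pos
    have hge : q ≤ Nat.card (Sylow 2 H) - 1 := Nat.le_of_dvd (by omega) h1
    have h2 := Nat.le_of_dvd (Nat.pos_of_ne_zero Subgroup.index_ne_zero_of_finite)
      S.card_dvd_index
    have h3 := Subgroup.card_mul_index (S : Subgroup H)
    rw [hS] at h3
    have : q * (3 * (S : Subgroup H).index) = q * (q - 1) := by rw [← hH3, ← h3]; ring
    have := Nat.eq_of_mul_eq_mul_left (by omega) this
    omega
  -- the Sylow subgroup is normal in `H`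
  haveI : Subsingleton (Sylow 2 H) := (Nat.card_eq_one_iff_unique.1 hn).1
  haveI hSn : (S : Subgroup H).Normal := S.normal_of_subsingleton
  set S' := (S : Subgroup H).map H.subtype with hS'
  have hS'c : Nat.card S' = q := by
    rw [hS', ← Nat.card_congr (Subgroup.equivMapOfInjective _ _ (Subgroup.subtype_injective _)).toEquiv,
      hS]
  have hGv : (Nat.card G).factorization 2 = a := by
    have hodd1 : (q + 1) % 2 = 1 ∧ (q - 1) % 2 = 1 := by
      have : 2 ∣ 2 ^ a := dvd_pow_self 2 (by intro h0; rw [h0] at hq; omega)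
      omega
    rw [hG, ← one_pow 2, Nat.sq_sub_sq, fac_mul (by omega) (Nat.mul_ne_zero (by omega) (by omega)),
      fac_mul (by omega) (by omega), fac_odd hodd1.1, fac_odd hodd1.2, hq,
      Nat.prime_two.factorization_pow, Finsupp.single_eq_same, add_zero, add_zero]
  set T : Sylow 2 G := Sylow.ofCard S' (by rw [hS'c, hGv]) with hT
  have hTn : Subgroup.normalizer (T : Set G) = H := by
    have hle : H ≤ Subgroup.normalizer (S' : Set G) := by
      intro g hg
      rw [Subgroup.mem_normalizer_iff]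
      intro y
      constructor
      · rintro ⟨w, hw, rfl⟩
        exact ⟨⟨g, hg⟩ * w * ⟨g, hg⟩⁻¹, hSn.conj_mem w hw _, rfl⟩
      · rintro ⟨w, hw, hwy⟩
        refine ⟨⟨g, hg⟩⁻¹ * w * ⟨g, hg⟩, hSn.conj_mem' w hw ⟨g, hg⟩, ?_⟩
        show g⁻¹ * (w : G) * g = y
        rw [show (w : G) = g * y * g⁻¹ from hwy]
        group
    rcases hle.eq_or_lt with heq | hlt
    · exact heq.symm
    · exfalso
      have htop := hco.2 _ hlt
      haveI : S'.Normal := Subgroup.normalizer_eq_top_iff.1 htop
      rcases h.eq_bot_or_eq_top S' with hb | hb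
      · rw [hb, Subgroup.card_bot] at hS'c; omega
      · rw [hb, Subgroup.card_top, hG] at hS'c
        have : 2 ≤ q ^ 2 - 1 := by
          have := Nat.pow_le_pow_left hq4 2
          omega
        have := Nat.mul_le_mul_left q this
        omega
  have h4 := sylow_count hCT T
  rw [show Nat.card (T : Subgroup G) = q from hS'c, Sylow.card_eq_index_normalizer T, hTn, hH,
    index_stabilizer_of_transitive, h.card_space, hp] at h4
  have : q ∣ 2 := (Nat.dvd_add_right (dvd_mul_left q 3)).1
    (by rwa [show 3 * (q + 1) - 1 = 3 * q + 2 by omega] at h4)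
  have := Nat.le_of_dvd two_pos this
  omega

/-- The case `π = 1 + χ` with `p ≡ 1` modulo four does not occur. -/
theorem Hyp.false_of_two_trans_one {χ : Cfsg.IrrCharacter G} {Y : Finset (Cfsg.IrrCharacter G)}
    (hE : Exc p (-1) (3 * p - 1) χ Y) (hπ : ∀ g : G, (fx Ω g : ℂ) = 1 + (χ : G → ℂ) g)
    (hp4 : p % 4 = 1) : False := by
  have h5 := h.five
  obtain ⟨x, t, hd⟩ := h.exists_dih
  obtain ⟨r, hr⟩ : ∃ r, p = 2 * r + 1 := ⟨(p - 1) / 2, by omega⟩
  have hr2 : 2 ≤ r := by omega
  obtain ⟨j, hjodd, hC, hG, hσ⟩ := h.two_trans_one hE hπ hp4 hd hr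
  have hν2 : 2 ≤ (p - 1).factorization 2 :=
    (Nat.prime_two.pow_dvd_iff_le_factorization (k := 2) (by omega)).1 (show 4 ∣ p - 1 by omega)
  obtain ⟨S, a, b, z, -, hσ'⟩ := h.exists_sylData
    (fun u hu => by rw [h.fx_involution hE (by omega) hu, if_pos hp4]) hp4 (by omega)
  have hGW : CfsgLib.GW.IsPSLOrAltSeven G :=
    h.psl_or_seven hE (by omega) (Or.inr ⟨hp4, by omega, by omega⟩)
  have hj1 : 1 ≤ j := by omega
  rcases psl_data hGW hd.invol with ⟨q, hq3, -, hq, hCq⟩ | h7
  swap
  · rw [h7] at hG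
    have : 5 * 14 * 13 * (9 * (2 * 2)) * (1 * 1) ≤
        p * (3 * p - 1) * (3 * p - 2) * (9 * (r * r)) * (j * j) :=
      Nat.mul_le_mul (Nat.mul_le_mul (Nat.mul_le_mul (Nat.mul_le_mul h5 (by omega)) (by omega))
        (Nat.mul_le_mul le_rfl (Nat.mul_le_mul hr2 hr2))) (Nat.mul_le_mul hj1 hj1)
    omega
  have hrz : (2 : ℤ) ≤ r := by omega
  have hjz : (1 : ℤ) ≤ j := by omega
  have hGi : (Nat.card G : ℤ) = p * (6 * r + 2) * (6 * r + 1) * (9 * (r * r)) * (j * j) := by
    rw [hG, show 3 * p - 1 = 6 * r + 2 by omega, show 3 * p - 2 = 6 * r + 1 by omega]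
    push_cast
    ring
  have hqi : 2 * (Nat.card G : ℤ) = q * ((q : ℤ) ^ 2 - 1) := by
    have : ((2 * Nat.card G : ℕ) : ℤ) = ((q * (q ^ 2 - 1) : ℕ) : ℤ) := by rw [hq]
    rw [Nat.cast_mul, Nat.cast_mul, Nat.cast_sub (Nat.one_le_pow _ _ (by omega))] at this
    push_cast at this
    exact this
  set c : ℤ := 18 * ((r : ℤ) * r) * j with hc
  have hC' : (Nat.card (Subgroup.centralizer ({t} : Set G)) : ℤ) = c := by
    rw [hC, hc]; push_cast; ring
  have hc0 : c ≠ 0 := by rw [hc]; positivity
  have key : (c - 1) * (c - 2) ≤ (2 * r + 1) * (6 * r + 2) * (6 * r + 1) * j := by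
    rw [hGi, show (p : ℤ) = 2 * r + 1 by omega] at hqi
    rcases hCq with hCq | hCq
    · have hqc : (q : ℤ) = c + 1 := by omega
      have e : (c + 1) * (c + 2) = (2 * r + 1) * (6 * r + 2) * (6 * r + 1) * j := by
        refine mul_left_cancel₀ hc0 ?_
        rw [hqc] at hqi
        rw [hc] at hqi ⊢
        linear_combination -hqi
      have : 0 ≤ c := by rw [hc]; positivity
      linarith
    · have hqc : (q : ℤ) = c - 1 := by omega
      have e : (c - 1) * (c - 2) = (2 * r + 1) * (6 * r + 2) * (6 * r + 1) * j := by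
        refine mul_left_cancel₀ hc0 ?_
        rw [hqc] at hqi
        rw [hc] at hqi ⊢
        linear_combination -hqi
      exact e.le
  have h1 : 17 * ((r : ℤ) * r) * j ≤ c - 2 := by
    rw [hc]
    nlinarith [mul_le_mul hrz hrz (by norm_num) (by omega)]
  have h2 : (17 * ((r : ℤ) * r) * j) * (17 * ((r : ℤ) * r) * j) ≤ (c - 1) * (c - 2) :=
    mul_le_mul (by linarith) h1 (by positivity) (by linarith [show (0 : ℤ) ≤ 17 * (r * r) * j by positivity])
  have h3 : (2 * (r : ℤ) + 1) * (6 * r + 2) * (6 * r + 1) ≤ (3 * r) * (7 * r) * (7 * r) :=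
    mul_le_mul (mul_le_mul (by linarith) (by linarith) (by positivity) (by positivity))
      (by linarith) (by positivity) (by positivity)
  have h4 : (17 * ((r : ℤ) * r) * j) * (17 * ((r : ℤ) * r) * j) ≤ (3 * r) * (7 * r) * (7 * r) * j :=
    h2.trans (key.trans (mul_le_mul_of_nonneg_right h3 (by positivity)))
  have h5' : ((r : ℤ) * r * r * j) * (289 * (r * j) - 147) ≤ 0 := by linarith [h4]
  have h6 : (0 : ℤ) < (r : ℤ) * r * r * j := by positivity
  nlinarith [mul_le_mul hrz hjz (by norm_num) (by omega)]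

end CfsgLib.DegreeThreeP
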