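import Cfsg.Agent.DegreeThreeP.Eigen
import Cfsg.Agent.GW.PSLTorus
import Cfsg.Agent.Linear.Basic

/-!
# Degree `3 p`, case `1 + χ + ξ`: `p = 5` and the order is 360

With a Sylow 2-subgroup of order at least 16 one suborbit would have length divisible by this order,
against the lengths found.  So Gorenstein–Walter applies and the arithmetic leaves `q = 9`.
-/

set_option autoImplicit false
set_option linter.unusedSectionVars false
set_option linter.style.haveILetI false

namespace CfsgLib.DegreeThreeP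

open MulAction CfsgLib.Perm.RankThree

universe u v

/-- No large 2-part with these suborbit lengths. -/
theorem no_sixteen {p : ℕ} {r : ℤ} (h2p : 2 * (p : ℤ) = 6 * r ^ 2 + 3 * r + 1)
    (h8 : (p : ℤ) % 8 = 1) : ¬ (16 ∣ (p : ℤ) + r) ∧ ¬ (16 ∣ 2 * (p : ℤ) - 1 - r) := by
  constructor
  · rintro ⟨q, hq⟩
    obtain ⟨j, hj⟩ : ∃ j : ℤ, (p : ℤ) = 8 * j + 1 := ⟨(p : ℤ) / 8, by omega⟩
    have hr : r = 8 * (2 * q - j) - 1 := by omega
    have he : 6 * r ^ 2 + 3 * r + 1 = 8 * (48 * (2 * q - j) ^ 2 - 9 * (2 * q - j)) + 4 := by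
      rw [hr]; ring
    omega
  · rintro ⟨q, hq⟩
    obtain ⟨j, hj⟩ : ∃ j : ℤ, (p : ℤ) = 8 * j + 1 := ⟨(p : ℤ) / 8, by omega⟩
    have hr : r = 16 * (j - q) + 1 := by omega
    have he : 6 * r ^ 2 + 3 * r + 1 = 16 * (96 * (j - q) ^ 2 + 15 * (j - q)) + 10 := by
      rw [hr]; ring
    omega

/-- The order and the centralizer of an involution of the groups in the Gorenstein–Walter list. -/
theorem psl_data {G : Type u} [Group G] [Finite G] (hG : CfsgLib.GW.IsPSLOrAltSeven G) {t : G}
    (ht : orderOf t = 2) :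
    (∃ q : ℕ, 3 < q ∧ (∃ l n : ℕ, l.Prime ∧ q = l ^ n) ∧
        2 * Nat.card G = q * (q ^ 2 - 1) ∧
        (Nat.card (Subgroup.centralizer ({t} : Set G)) + 1 = q ∨
          Nat.card (Subgroup.centralizer ({t} : Set G)) = q + 1)) ∨
      Nat.card G = 2520 := by
  classical
  rcases hG with ⟨F, _, _, hodd, h3, ⟨e⟩⟩ | ⟨⟨e⟩⟩
  · left
    obtain ⟨l, hlc⟩ := CharP.exists F
    obtain ⟨n, hl, hn⟩ := FiniteField.card F l
    have hto : orderOf (e t) = 2 := by rw [MulEquiv.orderOf_eq, ht]
    have hcong : Nat.card (Subgroup.centralizer ({t} : Set G)) =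
        Nat.card (Subgroup.centralizer ({e t} : Set (Matrix.ProjectiveSpecialLinearGroup (Fin 2) F))) := by
      refine Nat.card_congr
        { toFun := fun c => ⟨e c.1, ?_⟩
          invFun := fun c => ⟨e.symm c.1, ?_⟩
          left_inv := fun c => Subtype.ext (e.symm_apply_apply _)
          right_inv := fun c => Subtype.ext (e.apply_symm_apply _) }
      · rw [Subgroup.mem_centralizer_singleton_iff, ← map_mul, ← map_mul,
          Subgroup.mem_centralizer_singleton_iff.1 c.2]
      · rw [Subgroup.mem_centralizer_singleton_iff]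
        apply e.injective
        rw [map_mul, map_mul, e.apply_symm_apply, Subgroup.mem_centralizer_singleton_iff.1 c.2]
    refine ⟨Fintype.card F, h3, ⟨l, n, hl, hn⟩, ?_, ?_⟩
    · rw [Nat.card_congr e.toEquiv, CfsgLib.Linear.card_PSL_two_odd hodd]
    · rcases CfsgLib.GW.card_centralizer_involution_psl hodd hto with ⟨-, h'⟩ | ⟨-, h'⟩
      · left; omega
      · right; omega
  · right
    rw [Nat.card_congr e.toEquiv, nat_card_alternatingGroup, Nat.card_fin]
    rfl

variable {p : ℕ} [hpf : Fact p.Prime] {G : Type u} [Group G] [Fintype G] {Ω : Type v} [Fintype Ω]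
  [MulAction G Ω] {P : Sylow p G} (h : Hyp p Ω P)

include h

variable {χ ξ : Cfsg.IrrCharacter G} {Y : Finset (Cfsg.IrrCharacter G)}
  (hE : Exc p (-1) (2 * p - 1) χ Y) (hξ1 : ξ ≠ one G) (hξ2 : ξ ≠ χ) (hξ3 : ξ ∉ Y)
  (hξd : (ξ : G → ℂ) 1 = p)
  (hπ : ∀ g : G, (fx Ω g : ℂ) = 1 + (χ : G → ℂ) g + (ξ : G → ℂ) g)

include hE hξ1 hξ2 hξ3 hξd hπ

/-- The Sylow 2-subgroup has order at most eight. -/
theorem Hyp.rank_three_small (hp4 : p % 4 = 1) (hσ : (Nat.card G).factorization 2 =
    (p - 1).factorization 2 + 1) : (p - 1).factorization 2 = 2 := by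
  classical
  haveI := h.trans
  have h5 := h.five
  have hν2 : 2 ≤ (p - 1).factorization 2 :=
    (Nat.prime_two.pow_dvd_iff_le_factorization (k := 2) (by omega)).1 (show 4 ∣ p - 1 by omega)
  by_contra hne
  have hν3 : 3 ≤ (p - 1).factorization 2 := by omega
  have h8 : 8 ∣ p - 1 :=
    (Nat.prime_two.pow_dvd_iff_le_factorization (k := 3) (by omega)).2 hν3
  obtain ⟨S, a, b, z, hD, -⟩ := h.exists_sylData
    (fun u hu => by rw [h.fx_involution hE (by omega) hu, if_pos hp4]) hp4 (by omega)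
  have hd₁ : (χ : G → ℂ) 1 = (2 * p - 1 : ℕ) := hE.degree
  obtain ⟨b₂, -, -, -, hsym⟩ := h.orbital_cases hE.ne hξ1 hξ2 hd₁ hξd hπ hD.ne
  obtain ⟨r, h2p, hk⟩ := h.suborbit hE.ne hξ1 hξ2 hd₁ hξd hπ hD.ne
  obtain ⟨g₀, hg₀, hg₀b⟩ := hD.moves
  have hFix : ∀ w : G, orderOf w = 2 → (Finset.univ.filter fun y : Ω => w • y = y).card = 3 := by
    intro w hw
    rw [← Fintype.card_subtype, ← Nat.card_eq_fintype_card]
    exact (h.fx_involution hE (by omega) hw).trans (if_pos hp4)
  have hzc : z • (g₀ • b) = g₀ • b := by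
    rw [← mul_smul, ← hD.central g₀ hg₀, mul_smul, hD.fixb]
  have hg₀a : g₀ • b ≠ a := fun e => hD.ne (MulAction.injective g₀ (e.trans (hD.fix g₀ hg₀).symm))
  have hcol : ∀ g ∈ (S : Subgroup G), g ≠ 1 → ∀ x : Ω, x ≠ a → g • x = x → Rel G a b a x := by
    intro g hg hg1 x hxa hgx
    obtain ⟨n, hn, hnS⟩ := exists_involution_pow S.2 hg hg1
    have hwx : g ^ n • x = x := pow_mem (show g ∈ stabilizer G x from hgx) n
    set w := g ^ n
    have hwa := hD.fix w hnS
    have hab : Rel G a b a b := ⟨1, one_smul _ _, one_smul _ _⟩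
    have hab' : Rel G a b a (g₀ • b) := ⟨g₀, hD.fix g₀ hg₀, rfl⟩
    by_cases hzx : z • x = x
    · have hsub : ({a, b, g₀ • b} : Finset Ω) = Finset.univ.filter fun y : Ω => z • y = y := by
        refine Finset.eq_of_subset_of_card_le ?_ ?_
        · simp [Finset.insert_subset_iff, hD.fix z hD.memz, hD.fixb, hzc]
        · rw [hFix z hD.invol, Finset.card_eq_three.2
            ⟨a, b, g₀ • b, hD.ne.symm, hg₀a.symm, hg₀b.symm, rfl⟩]
      have : x ∈ ({a, b, g₀ • b} : Finset Ω) := by rw [hsub]; simp [hzx]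
      simp only [Finset.mem_insert, Finset.mem_singleton] at this
      rcases this with e | e | e
      · exact absurd e hxa
      · rw [e]; exact hab
      · rw [e]; exact hab'
    · have hza : z • x ≠ a := fun e =>
        hxa (MulAction.injective z (e.trans (hD.fix z hD.memz).symm))
      have hwzx : w • (z • x) = z • x := by
        rw [← mul_smul, hD.central w hnS, mul_smul, hwx]
      have hW : ({a, x, z • x} : Finset Ω) = Finset.univ.filter fun y : Ω => w • y = y := by
        refine Finset.eq_of_subset_of_card_le ?_ ?_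
        · simp [Finset.insert_subset_iff, hwa, hwx, hwzx]
        · rw [hFix w hn, Finset.card_eq_three.2
            ⟨a, x, z • x, hxa.symm, hza.symm, Ne.symm hzx, rfl⟩]
      obtain ⟨x', t, hd⟩ := h.exists_dih
      obtain ⟨c, hc⟩ := isConj_iff.1
        ((h.conj_all hE (by omega) hd hD.invol).symm.trans (h.conj_all hE (by omega) hd hn))
      have himg : ∀ y : Ω, z • y = y → c • y ∈ ({a, x, z • x} : Finset Ω) := by
        intro y hy
        rw [hW]
        simp only [Finset.mem_filter, Finset.mem_univ, true_and]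
        rw [← hc, mul_smul, mul_smul, inv_smul_smul, hy]
      have e1 : Rel G a b (c • a) (c • b) := (rel_smul c a b).2 hab
      have e2 : Rel G a b (c • a) (c • (g₀ • b)) := (rel_smul c _ _).2 hab'
      have hconv : Rel G a b a (z • x) → Rel G a b a x := by
        intro hr
        have := (rel_smul z⁻¹ a (z • x)).2 hr
        rwa [inv_smul_smul, inv_smul_eq_iff.2 (hD.fix z hD.memz).symm] at this
      have m0 := himg a (hD.fix z hD.memz)
      have m1 := himg b hD.fixb
      have m2 := himg _ hzc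
      simp only [Finset.mem_insert, Finset.mem_singleton] at m0 m1 m2
      have n01 : c • b ≠ c • a := fun e => hD.ne (MulAction.injective c e)
      have n02 : c • (g₀ • b) ≠ c • a := fun e => hg₀a (MulAction.injective c e)
      have n12 : c • (g₀ • b) ≠ c • b := fun e => hg₀b (MulAction.injective c e)
      rcases m0 with m0 | m0 | m0 <;> rw [m0] at e1 e2 n01 n02
      · rcases m1 with m1 | m1 | m1
        · exact absurd m1 n01
        · rw [← m1]; exact e1
        · exact hconv (by rw [← m1]; exact e1)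
      all_goals
        rcases m1 with m1 | m1 | m1
      · rw [m1] at e1; exact hsym _ _ e1
      · exact absurd m1 n01
      · rcases m2 with m2 | m2 | m2
        · rw [m2] at e2; exact hsym _ _ e2
        · exact absurd m2 n02
        · exact absurd (m2.trans m1.symm) n12
      · rw [m1] at e1; exact hconv (hsym _ _ e1)
      · rcases m2 with m2 | m2 | m2
        · rw [m2] at e2; exact hconv (hsym _ _ e2)
        · exact absurd (m2.trans m1.symm) n12
        · exact absurd m2 n02
      · exact absurd m1 n01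
  set k := Nat.card (orbit (stabilizer G a) b) with hkdef
  set Z := ((Finset.univ : Finset Ω).erase a) \ (orbit (stabilizer G a) b).toFinset with hZ
  have hYsub : (orbit (stabilizer G a) b).toFinset ⊆ (Finset.univ : Finset Ω).erase a := by
    intro y hy
    obtain ⟨⟨g, hg⟩, hgy⟩ := Set.mem_toFinset.1 hy
    refine Finset.mem_erase.2 ⟨fun e => ?_, Finset.mem_univ _⟩
    exact hD.ne (MulAction.injective g ((hgy.trans e : g • b = a).trans hg.symm))
  have hZc : Z.card + k = 3 * p - 1 := by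
    have := Finset.card_sdiff_add_card_eq_card hYsub
    rwa [Finset.card_erase_of_mem (Finset.mem_univ _), Finset.card_univ,
      ← Nat.card_eq_fintype_card, h.card_space, ← Set.ncard_eq_toFinset_card',
      ← Nat.card_coe_set_eq, ← hkdef] at this
  have hdvd : Nat.card (S : Subgroup G) ∣ Z.card := by
    refine card_dvd_of_free (S : Subgroup G) Z (fun g hg x hx => ?_) fun g hg x hx hgx => ?_
    · simp only [hZ, Finset.mem_sdiff, Finset.mem_erase, Finset.mem_univ, and_true,
        Set.mem_toFinset] at hx ⊢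
      refine ⟨fun e => hx.1 (MulAction.injective g (e.trans (hD.fix g hg).symm)), fun hm => hx.2 ?_⟩
      obtain ⟨⟨l, hl⟩, hly⟩ := hm
      refine ⟨⟨g⁻¹ * l, mul_mem (inv_mem (hD.fix g hg : g ∈ stabilizer G a)) hl⟩, ?_⟩
      show (g⁻¹ * l) • b = x
      rw [mul_smul, show l • b = g • x from hly, inv_smul_smul]
    · by_contra hg1
      simp only [hZ, Finset.mem_sdiff, Finset.mem_erase, Finset.mem_univ, and_true,
        Set.mem_toFinset] at hx
      obtain ⟨l, hla, hlb⟩ := hcol g hg hg1 x hx.1 hgx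
      exact hx.2 ⟨⟨l, hla⟩, hlb⟩
  have h16 : 16 ∣ Z.card := by
    refine dvd_trans ?_ hdvd
    rw [hD.card, show 16 = 2 ^ 4 from rfl]
    exact pow_dvd_pow 2 (by omega)
  obtain ⟨hn1, hn2⟩ := no_sixteen h2p (by omega)
  have h16' : (16 : ℤ) ∣ (Z.card : ℤ) := by exact_mod_cast h16
  rcases hk with hk | hk
  · apply hn2
    rw [show 2 * (p : ℤ) - 1 - r = Z.card by omega]
    exact h16'
  · apply hn1
    rw [show (p : ℤ) + r = Z.card by omega]
    exact h16'

/-- Case `1 + χ + ξ`. -/
theorem Hyp.rank_three : p = 5 ∧ Nat.card G = 360 := by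
  have hp := hpf.out
  have h5 := h.five
  have hodd := h.odd
  obtain ⟨x, t, hd⟩ := h.exists_dih
  obtain ⟨k, hkodd, hC, hG, hσ⟩ := h.rank_three_order hE hξ1 hξ2 hξ3 hξd hπ hd
  have hGW : CfsgLib.GW.IsPSLOrAltSeven G := by
    refine h.psl_or_seven hE (by omega) ?_
    by_cases hp4 : p % 4 = 1
    · exact Or.inr ⟨hp4, h.rank_three_small hE hξ1 hξ2 hξ3 hξd hπ hp4 hσ,
        by rw [hσ, h.rank_three_small hE hξ1 hξ2 hξ3 hξd hπ hp4 hσ]⟩
    · left
      rw [hσ, show p - 1 = 2 * ((p - 1) / 2) by omega, fac_two_mul_odd (by omega)]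
  rcases psl_data hGW hd.invol with ⟨q, hq3, ⟨l, n, hl, hqln⟩, hq, hCq⟩ | h7
  swap
  · exfalso
    rw [h7] at hG
    have hk0 : 1 ≤ k := by omega
    have hk1 : 1 ≤ k * k := Nat.mul_pos hk0 hk0
    have e : p * (2 * p - 1) * (2 * p - 2) ≤ 2520 := by
      rw [hG]; exact Nat.le_mul_of_pos_right _ (by omega)
    have hp9 : p ≤ 9 := by
      by_contra hcon
      have : 10 * 19 * 18 ≤ p * (2 * p - 1) * (2 * p - 2) :=
        Nat.mul_le_mul (Nat.mul_le_mul (by omega) (by omega)) (by omega)
      omega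
    have hk9 : k ≤ 4 := by
      by_contra hcon
      have : 5 * 9 * 8 * 25 ≤ p * (2 * p - 1) * (2 * p - 2) * (k * k) :=
        Nat.mul_le_mul (Nat.mul_le_mul (Nat.mul_le_mul h5 (by omega)) (by omega)) (by nlinarith)
      omega
    interval_cases p <;> interval_cases k <;> omega
  -- in integers
  have hk1 : 1 ≤ (k : ℤ) := by omega
  have hP : (5 : ℤ) ≤ p := by omega
  have hGi : (Nat.card G : ℤ) = p * (2 * p - 1) * (2 * p - 2) * (k * k) := by
    rw [hG, Nat.cast_mul, Nat.cast_mul, Nat.cast_mul, Nat.cast_mul, Nat.cast_sub (by omega),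
      Nat.cast_sub (by omega)]
    push_cast
    ring
  have hqi : 2 * (Nat.card G : ℤ) = q * ((q : ℤ) ^ 2 - 1) := by
    have : ((2 * Nat.card G : ℕ) : ℤ) = ((q * (q ^ 2 - 1) : ℕ) : ℤ) := by rw [hq]
    rw [Nat.cast_mul, Nat.cast_mul, Nat.cast_sub (Nat.one_le_pow _ _ (by omega))] at this
    push_cast at this
    exact this
  set c : ℤ := (2 * (p : ℤ) - 2) * k with hc
  have hc0 : c ≠ 0 := by rw [hc]; exact mul_ne_zero (by omega) (by omega)
  have hCi : (Nat.card (Subgroup.centralizer ({t} : Set G)) : ℤ) = c := by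
    rw [hC, hc, Nat.cast_mul, Nat.cast_sub (by omega)]
    push_cast
    ring
  have hkcases : k = 1 ∨ 3 ≤ (k : ℤ) := by omega
  have hq9 : (q : ℤ) = 2 * p - 1 ∧ k = 1 := by
    rcases hCq with hCq | hCq
    · have hqc : (q : ℤ) = c + 1 := by omega
      have e : (c + 1) * (c + 2) = 2 * (p : ℤ) * (2 * p - 1) * k := by
        refine mul_left_cancel₀ hc0 ?_
        rw [hGi, hqc] at hqi
        rw [hc] at hqi ⊢
        linear_combination -hqi
      rcases hkcases with rfl | hk3
      · exact ⟨by rw [hqc, hc]; push_cast; ring, rfl⟩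
      · exfalso
        rw [hc] at e
        nlinarith [mul_le_mul_of_nonneg_left hk3 (sq_nonneg (2 * (p : ℤ) - 2))]
    · have hqc : (q : ℤ) = c - 1 := by omega
      have e : (c - 1) * (c - 2) = 2 * (p : ℤ) * (2 * p - 1) * k := by
        refine mul_left_cancel₀ hc0 ?_
        rw [hGi, hqc] at hqi
        rw [hc] at hqi ⊢
        linear_combination -hqi
      exfalso
      rw [hc] at e
      rcases hkcases with rfl | hk3
      · push_cast at e
        nlinarith
      · nlinarith [mul_le_mul_of_nonneg_left hk3 (sq_nonneg (2 * (p : ℤ) - 2))]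
  obtain ⟨hq9, rfl⟩ := hq9
  -- a power of three
  obtain ⟨a, b, hab⟩ : ∃ a b : Ω, b ≠ a := by
    haveI : Nontrivial Ω := Finite.one_lt_card_iff_nontrivial.1 (by rw [h.card_space]; omega)
    obtain ⟨a, b, hab⟩ := exists_pair_ne Ω
    exact ⟨a, b, hab.symm⟩
  obtain ⟨r, h2p, -⟩ := h.suborbit hE.ne hξ1 hξ2 hE.degree hξd hπ hab
  have hr : (q : ℤ) = 3 * (r * (2 * r + 1)) := by rw [hq9]; linarith
  have h3q : 3 ∣ q := by exact_mod_cast (Dvd.intro _ hr.symm : (3 : ℤ) ∣ (q : ℤ))
  have hl3 : l = 3 := by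
    rw [hqln] at h3q
    exact ((Nat.prime_dvd_prime_iff_eq Nat.prime_three hl).1 (Nat.prime_three.dvd_of_dvd_pow h3q)).symm
  subst hl3
  have hdiv : ∀ y : ℤ, y ∣ r * (2 * r + 1) → y.natAbs = 1 ∨ (3 : ℤ) ∣ y := by
    intro y hy
    have h1 : y ∣ ((3 ^ n : ℕ) : ℤ) := by
      rw [← hqln, hr]; exact hy.mul_left 3
    obtain ⟨i, -, hi⟩ := (Nat.dvd_prime_pow Nat.prime_three).1
      (Int.dvd_natCast.1 h1)
    rcases i with _ | i
    · exact Or.inl (by simpa using hi)
    · exact Or.inr (Int.natCast_dvd.2 (hi ▸ dvd_pow_self 3 i.succ_ne_zero))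
  have hcases : r = 1 ∨ r = -1 ∨ r = 0 := by
    rcases hdiv r (dvd_mul_right _ _) with h1 | h1 <;>
      rcases hdiv (2 * r + 1) (dvd_mul_left _ _) with h2 | h2 <;> omega
  rcases hcases with rfl | rfl | rfl
  · obtain rfl : p = 5 := by omega
    exact ⟨rfl, by rw [hG]⟩
  all_goals omega

end CfsgLib.DegreeThreeP
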