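import Cfsg.Agent.DegreeThreeP.Sylow
import Cfsg.Agent.Perm.RankThree

/-!
# Degree `3 p`, case `1 + χ + ξ`: the adjacency eigenvalues and the two suborbits

The orbitals other than the diagonal are two symmetric relations; the eigenvalues of either on the
constituents are rational integers, whence `2 p = 6 r² + 3 r + 1` and the suborbit lengths are
`p + r` and `2 p - 1 - r`.
-/

set_option autoImplicit false
set_option linter.unusedSectionVars false
set_option linter.style.haveILetI false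

namespace CfsgLib.DegreeThreeP

open MulAction CfsgLib.Characters CfsgLib.Perm CfsgLib.Perm.RankThree
open scoped ComplexConjugate

universe u v

/-- An algebraic integer with a nonzero integral multiple an integer is an integer. -/
theorem int_of_isIntegral {r : ℂ} {d n : ℤ} (hr : IsIntegral ℤ r) (hd : d ≠ 0)
    (hn : (d : ℂ) * r = n) : ∃ i : ℤ, r = i := by
  have hr' : r = algebraMap ℚ ℂ ((n : ℚ) / d) := by
    rw [map_div₀, map_intCast, map_intCast, eq_div_iff (Int.cast_ne_zero.2 hd), ← hn, mul_comm]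
  have hq : IsIntegral ℤ ((n : ℚ) / d) := by
    refine (isIntegral_algHom_iff (IsScalarTower.toAlgHom ℤ ℚ ℂ) (algebraMap ℚ ℂ).injective).1 ?_
    rw [hr'] at hr
    simpa using hr
  obtain ⟨z, hz⟩ := IsIntegrallyClosed.isIntegral_iff.1 hq
  refine ⟨z, ?_⟩
  rw [hr', ← hz]
  simp

/-- The arithmetic of the parameters. -/
theorem rank_three_arith {p : ℕ} {k r s : ℤ} (hp : 5 ≤ p) (hk1 : 1 ≤ k) (hk2 : k + 2 ≤ 3 * p)
    (e1 : k + (2 * p - 1) * r + p * s = 0)
    (e2 : k ^ 2 + (2 * p - 1) * r ^ 2 + p * s ^ 2 = 3 * p * k) :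
    ∃ r' : ℤ, 2 * (p : ℤ) = 6 * r' ^ 2 + 3 * r' + 1 ∧ (k = p + r' ∨ k = 2 * p - 1 - r') := by
  obtain ⟨c, hc⟩ : ∃ c : ℤ, c = -2 * r - s := ⟨_, rfl⟩
  have hs : s = -2 * r - c := by omega
  subst hs
  have hk : k = p * c + r := by linear_combination e1
  subst hk
  have hpc : (p : ℤ) * (c * (3 - c)) = 6 * r ^ 2 + 3 * r * (2 * c - 1) + c ^ 2 := by
    have : (p : ℤ) * ((p : ℤ) * (c * (3 - c)) - (6 * r ^ 2 + 3 * r * (2 * c - 1) + c ^ 2)) = 0 := by
      linear_combination -e2
    have := (mul_eq_zero.1 this).resolve_left (by omega)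
    linarith
  have hlow : -(4 * (c * (c - 3)) + 3) ≤ 8 * (6 * r ^ 2 + 3 * r * (2 * c - 1) + c ^ 2) := by
    nlinarith [sq_nonneg (4 * r + (2 * c - 1))]
  have hc' : c ≤ 3 ∧ 0 ≤ c := by
    constructor <;> by_contra hcon <;> push Not at hcon
    · have h4 : 4 ≤ c * (c - 3) := by nlinarith
      nlinarith
    · have h4 : 4 ≤ c * (c - 3) := by nlinarith
      nlinarith
  obtain ⟨hc3, hc0⟩ := hc'
  interval_cases c
  · exfalso
    have : r * (2 * r - 1) = 0 := by linarith
    rcases mul_eq_zero.1 this with h | h <;> omega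
  · exact ⟨r, by linarith, Or.inl (by ring)⟩
  · exact ⟨-1 - r, by linarith, Or.inr (by ring)⟩
  · exfalso
    have : (2 * r + 3) * (r + 1) = 0 := by linarith
    rcases mul_eq_zero.1 this with h | h <;> omega

variable {p : ℕ} [hpf : Fact p.Prime] {G : Type u} [Group G] [Fintype G] {Ω : Type v} [Fintype Ω]
  [MulAction G Ω] {P : Sylow p G} (h : Hyp p Ω P)

include h

variable {χ ξ : Cfsg.IrrCharacter G} (hχ1 : χ ≠ one G) (hξ1 : ξ ≠ one G) (hξχ : ξ ≠ χ)
  (hd₁ : (χ : G → ℂ) 1 = (2 * p - 1 : ℕ)) (hd₂ : (ξ : G → ℂ) 1 = p)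
  (hπ : ∀ g : G, (fx Ω g : ℂ) = 1 + (χ : G → ℂ) g + (ξ : G → ℂ) g)

include hχ1 hξ1 hξχ hd₁ hd₂ hπ

/-- Three orbitals. -/
theorem Hyp.card_orbitals : Nat.card (orbitRel.Quotient G (Ω × Ω)) = 3 := by
  have hperm : PermChar.perm G Ω = (fun _ => (1 : ℂ)) + (χ : G → ℂ) + (ξ : G → ℂ) := by
    funext g
    exact hπ g
  have hne1 : (χ : G → ℂ) ≠ fun _ => 1 := fun e => hχ1 (Subtype.ext e)
  have hne2 : (ξ : G → ℂ) ≠ fun _ => 1 := fun e => hξ1 (Subtype.ext e)
  have hne12 : (χ : G → ℂ) ≠ (ξ : G → ℂ) := fun e => hξχ (Subtype.ext e).symm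
  have hn := PermChar.norm_perm (G := G) (Ω := Ω)
  rw [hperm] at hn
  simp only [classInner_add_left, classInner_add_right, classInner_isIrr_self isIrr_one,
    classInner_isIrr_self χ.2, classInner_isIrr_self ξ.2,
    classInner_isIrr_ne isIrr_one χ.2 hne1.symm, classInner_isIrr_ne χ.2 isIrr_one hne1,
    classInner_isIrr_ne isIrr_one ξ.2 hne2.symm, classInner_isIrr_ne ξ.2 isIrr_one hne2,
    classInner_isIrr_ne χ.2 ξ.2 hne12, classInner_isIrr_ne ξ.2 χ.2 hne12.symm] at hn
  norm_num at hn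
  exact_mod_cast hn.symm

/-- Two symmetric orbitals off the diagonal. -/
theorem Hyp.orbital_cases {a b : Ω} (hab : b ≠ a) : ∃ b₂, b₂ ≠ a ∧ ¬ Rel G a b a b₂ ∧
    (∀ x y : Ω, x ≠ y → Rel G a b x y ∨ Rel G a b₂ x y) ∧
    (∀ x y : Ω, Rel G a b x y → Rel G a b y x) := by
  classical
  haveI := h.trans
  haveI := h.faith
  letI := Fintype.ofFinite (orbitRel.Quotient G (Ω × Ω))
  have hmk : ∀ {c x y : Ω}, (Quotient.mk _ (x, y) : orbitRel.Quotient G (Ω × Ω)) =
      Quotient.mk _ (a, c) ↔ Rel G a c x y := by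
    intro c x y
    constructor
    · intro he
      obtain ⟨g, hg⟩ := Quotient.exact he
      exact ⟨g, congrArg Prod.fst hg, congrArg Prod.snd hg⟩
    · rintro ⟨g, h1, h2⟩
      exact Quotient.sound ⟨g, Prod.ext h1 h2⟩
  have hdiag : ∀ {x y : Ω}, Rel G a a x y ↔ x = y := by
    intro x y
    constructor
    · rintro ⟨g, h1, h2⟩; exact h1.symm.trans h2
    · rintro rfl
      obtain ⟨g, hg⟩ := MulAction.exists_smul_eq G a x
      exact ⟨g, hg, hg⟩
  obtain ⟨q, hq⟩ : ∃ q : orbitRel.Quotient G (Ω × Ω),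
      q ∉ ({Quotient.mk _ (a, a), Quotient.mk _ (a, b)} : Finset _) := by
    by_contra hcon
    push Not at hcon
    have h1 := Finset.card_le_card (fun q (_ : q ∈ Finset.univ) => hcon q)
    rw [Finset.card_univ, ← Nat.card_eq_fintype_card,
      h.card_orbitals hχ1 hξ1 hξχ hd₁ hd₂ hπ] at h1
    exact absurd (h1.trans Finset.card_le_two) (by norm_num)
  obtain ⟨⟨x₀, y₀⟩, rfl⟩ := Quotient.exists_rep q
  simp only [Finset.mem_insert, Finset.mem_singleton, not_or, hmk] at hq
  obtain ⟨g₀, hg₀⟩ := MulAction.exists_smul_eq G a x₀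
  have hb2 : g₀⁻¹ • y₀ ≠ a := fun e => hq.1 (hdiag.2 (by
    rw [← hg₀, ← e, smul_inv_smul]))
  have hrel : Rel G a (g₀⁻¹ • y₀) x₀ y₀ := ⟨g₀, hg₀, smul_inv_smul _ _⟩
  set b₂ := g₀⁻¹ • y₀
  have hnb : ¬ Rel G a b a b₂ := fun hr => hq.2 (by
    have := (rel_smul g₀ a b₂).2 hr
    rwa [hg₀, smul_inv_smul] at this)
  have hcases : ∀ x y : Ω, x ≠ y → Rel G a b x y ∨ Rel G a b₂ x y := by
    intro x y hxy
    have hne1 : (Quotient.mk _ (a, a) : orbitRel.Quotient G (Ω × Ω)) ≠ Quotient.mk _ (a, b) := by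
      rw [Ne, hmk]
      rintro ⟨g, h1, h2⟩
      exact hab (MulAction.injective g (h2.trans h1.symm))
    have hne2 : (Quotient.mk _ (a, a) : orbitRel.Quotient G (Ω × Ω)) ≠ Quotient.mk _ (a, b₂) := by
      rw [Ne, hmk]
      rintro ⟨g, h1, h2⟩
      exact hb2 (MulAction.injective g (h2.trans h1.symm))
    have hne3 : (Quotient.mk _ (a, b) : orbitRel.Quotient G (Ω × Ω)) ≠ Quotient.mk _ (a, b₂) := by
      intro e
      exact hnb (hmk.1 e.symm)
    have huniv := Finset.eq_univ_of_card ({Quotient.mk _ (a, a), Quotient.mk _ (a, b),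
      Quotient.mk _ (a, b₂)} : Finset (orbitRel.Quotient G (Ω × Ω))) (by
      rw [Finset.card_eq_three.2 ⟨_, _, _, hne1, hne2, hne3, rfl⟩, ← Nat.card_eq_fintype_card,
        h.card_orbitals hχ1 hξ1 hξχ hd₁ hd₂ hπ])
    have := Finset.mem_univ (Quotient.mk _ (x, y) : orbitRel.Quotient G (Ω × Ω))
    rw [← huniv] at this
    simp only [Finset.mem_insert, Finset.mem_singleton, hmk] at this
    rcases this with e | e | e
    · exact absurd (hdiag.1 e) hxy
    · exact Or.inl e
    · exact Or.inr e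
  refine ⟨b₂, hb2, hnb, hcases, fun x y hxy => ?_⟩
  have hne : x ≠ y := by
    rintro rfl
    obtain ⟨g, h1, h2⟩ := hxy
    exact hab (MulAction.injective g (h2.trans h1.symm))
  rcases hcases y x hne.symm with h' | h'
  · exact h'
  exfalso
  -- an involution swaps a pair, which then lies in neither orbital
  obtain ⟨x', t, -, -, hto, -⟩ := h.exists_inverting
  obtain ⟨e, he⟩ : ∃ e : Ω, t • e ≠ e := by
    by_contra hcon
    push Not at hcon
    have : t = 1 := eq_of_smul_eq_smul (α := Ω) fun e => by rw [hcon e, one_smul]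
    rw [this, orderOf_one] at hto
    omega
  have htt : t • (t • e) = e := by
    rw [← mul_smul, ← pow_two, ← hto, pow_orderOf_eq_one, one_smul]
  obtain ⟨g, rfl, rfl⟩ := hxy
  have hba : Rel G a b₂ b a := (rel_smul g b a).1 h'
  obtain ⟨k, hk1, hk2⟩ := hba
  have hswap : ∀ u v, Rel G a b u v → Rel G a b₂ v u := by
    rintro u v ⟨l, rfl, rfl⟩
    exact ⟨l * k, by rw [mul_smul, hk1], by rw [mul_smul, hk2]⟩
  have hswap' : ∀ u v, Rel G a b₂ u v → Rel G a b v u := by
    rintro u v ⟨l, rfl, rfl⟩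
    exact ⟨l * k⁻¹, by rw [mul_smul, ← hk2, inv_smul_smul],
      by rw [mul_smul, ← hk1, inv_smul_smul]⟩
  have hboth : ∀ u v : Ω, Rel G a b u v → Rel G a b₂ u v → False := by
    rintro u v ⟨l, rfl, rfl⟩ ⟨l', h1, h2⟩
    refine hnb ⟨l'⁻¹ * l, ?_, ?_⟩
    · rw [mul_smul, ← h1, inv_smul_smul]
    · rw [mul_smul, ← h2, inv_smul_smul]
  rcases hcases e (t • e) (Ne.symm he) with h1 | h1
  · refine hboth e (t • e) h1 ?_
    have := (rel_smul t e (t • e)).2 h1
    rw [htt] at this
    exact hswap _ _ this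
  · refine hboth e (t • e) ?_ h1
    have := (rel_smul t e (t • e)).2 h1
    rw [htt] at this
    exact hswap' _ _ this

/-- The suborbit lengths. -/
theorem Hyp.suborbit {a b : Ω} (hab : b ≠ a) :
    ∃ r : ℤ, 2 * (p : ℤ) = 6 * r ^ 2 + 3 * r + 1 ∧
      ((Nat.card (orbit (stabilizer G a) b) : ℤ) = p + r ∨
        (Nat.card (orbit (stabilizer G a) b) : ℤ) = 2 * p - 1 - r) := by
  classical
  haveI := h.trans
  haveI : Nonempty Ω := ⟨a⟩
  have hp := hpf.out
  have h5 := h.five
  obtain ⟨b₂, hb₂, hnb, hcases, hsym⟩ := h.orbital_cases hχ1 hξ1 hξχ hd₁ hd₂ hπ hab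
  set ρ := Cfsg.permRep ℂ G Ω with hρ
  have hchar : ρ.character = PermChar.perm G Ω := PermChar.character_permRep
  set k := Nat.card (orbit (stabilizer G a) b) with hk
  have hne1 : (χ : G → ℂ) ≠ fun _ => 1 := fun e => hχ1 (Subtype.ext e)
  have hne2 : (ξ : G → ℂ) ≠ fun _ => 1 := fun e => hξ1 (Subtype.ext e)
  have hne12 : (χ : G → ℂ) ≠ (ξ : G → ℂ) := fun e => hξχ (Subtype.ext e).symm
  have hone : Cfsg.IsIrrCharacter G (fun _ => (1 : ℂ)) := isIrr_one
  have hinner : ∀ ψ : G → ℂ, Cfsg.classInner ρ.character ψ =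
      Cfsg.classInner (fun _ => (1 : ℂ)) ψ + Cfsg.classInner (χ : G → ℂ) ψ +
        Cfsg.classInner (ξ : G → ℂ) ψ := by
    intro ψ
    rw [hchar, show PermChar.perm G Ω = (fun _ => (1 : ℂ)) + (χ : G → ℂ) + (ξ : G → ℂ) from
      funext hπ, classInner_add_left, classInner_add_left]
  have hm0 : Cfsg.classInner ρ.character (fun _ => 1) = 1 := by
    rw [hinner, classInner_isIrr_self hone, classInner_isIrr_ne χ.2 hone hne1,
      classInner_isIrr_ne ξ.2 hone hne2, add_zero, add_zero]
  have hm1 : Cfsg.classInner ρ.character (χ : G → ℂ) = 1 := by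
    rw [hinner, classInner_isIrr_self χ.2, classInner_isIrr_ne hone χ.2 hne1.symm,
      classInner_isIrr_ne ξ.2 χ.2 hne12.symm, add_zero, zero_add]
  have hm2 : Cfsg.classInner ρ.character (ξ : G → ℂ) = 1 := by
    rw [hinner, classInner_isIrr_self ξ.2, classInner_isIrr_ne hone ξ.2 hne2.symm,
      classInner_isIrr_ne χ.2 ξ.2 hne12, add_zero, zero_add]
  -- the adjacency map
  let M0 : Matrix Ω Ω ℤ := Matrix.of fun x y => if Rel G a b x y then 1 else 0
  let T : (Ω → ℂ) →ₗ[ℂ] (Ω → ℂ) := Matrix.toLin' (M0.map (Int.castRingHom ℂ))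
  have hTapp : ∀ v x, T v x = ∑ y, (if Rel G a b x y then v y else 0) := by
    intro v x
    simp only [T, Matrix.toLin'_apply, Matrix.mulVec, dotProduct, M0, Matrix.map_apply,
      Matrix.of_apply]
    refine Finset.sum_congr rfl fun y _ => ?_
    split_ifs <;> simp
  have hT : Isotypic.IsInter ρ T := by
    intro g v
    funext x
    show T (fun y => v (g⁻¹ • y)) x = T v (g⁻¹ • x)
    rw [hTapp, hTapp]
    refine Fintype.sum_equiv (MulAction.toPerm g⁻¹) _ _ fun y => ?_
    simp [rel_smul]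
  have hrow : ∀ x, Nat.card {y : Ω // Rel G a b x y} = k := by
    intro x
    obtain ⟨g, rfl⟩ := MulAction.exists_smul_eq G a x
    refine (Nat.card_congr ((Equiv.subtypeEquiv (MulAction.toPerm g) fun y => ?_))).symm
    show y ∈ MulAction.orbit (MulAction.stabilizer G a) b ↔ Rel G a b (g • a) (g • y)
    rw [rel_smul]
    constructor
    · rintro ⟨⟨h, hh⟩, rfl⟩
      exact ⟨h, hh, rfl⟩
    · rintro ⟨h, hh, rfl⟩
      exact ⟨⟨h, hh⟩, rfl⟩
  have hk1 : 1 ≤ k := by
    rw [hk]
    haveI : Nonempty (orbit (stabilizer G a) b) := ⟨⟨b, mem_orbit_self _⟩⟩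
    exact Nat.card_pos
  have hk2 : k + 2 ≤ 3 * p := by
    have hsub : (orbit (stabilizer G a) b).toFinset ⊆ ((Finset.univ : Finset Ω).erase a).erase b₂ := by
      intro y hy
      rw [Set.mem_toFinset] at hy
      obtain ⟨⟨g, hg⟩, hgy⟩ := hy
      refine Finset.mem_erase.2 ⟨?_, Finset.mem_erase.2 ⟨?_, Finset.mem_univ _⟩⟩
      · intro e
        exact hnb ⟨g, hg, (hgy.trans e :)⟩
      · intro e
        exact hab (MulAction.injective g ((hgy.trans e : g • b = a).trans hg.symm))
    have h1 := Finset.card_le_card hsub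
    rw [Finset.card_erase_of_mem (by simp [hb₂]), Finset.card_erase_of_mem (Finset.mem_univ _),
      Finset.card_univ, ← Nat.card_eq_fintype_card, h.card_space,
      ← Set.ncard_eq_toFinset_card', ← Nat.card_coe_set_eq, ← hk] at h1
    omega
  have hT1 : T (fun _ => 1) = (k : ℂ) • (fun _ => (1 : ℂ)) := by
    funext x
    rw [hTapp, Finset.sum_boole, Pi.smul_apply, smul_eq_mul, mul_one, ← hrow x,
      Nat.card_eq_fintype_card, Fintype.card_subtype]
  obtain ⟨c₀, hc₀⟩ := Isotypic.inter_comp_proj ρ hone hm0 hT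
  obtain ⟨r, hr⟩ := Isotypic.inter_comp_proj ρ χ.2 hm1 hT
  obtain ⟨s, hs⟩ := Isotypic.inter_comp_proj ρ ξ.2 hm2 hT
  have hconst1 : ∀ g, ρ g (fun _ => (1 : ℂ)) = fun _ => 1 := fun g => rfl
  have hproj1 : ∀ φ : G → ℂ, Isotypic.proj ρ φ (fun _ => (1 : ℂ)) =
      (φ 1 * Cfsg.classInner φ (fun _ => (1 : ℂ))) • (fun _ => (1 : ℂ)) := by
    intro φ
    rw [Isotypic.proj, LinearMap.smul_apply, avgOp, LinearMap.sum_apply]
    simp only [LinearMap.smul_apply, hconst1]
    rw [← Finset.sum_smul, smul_smul, Cfsg.classInner]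
    congr 1
    simp only [map_one, mul_one]
    ring
  have hc0 : c₀ = k := by
    have h := hc₀ (fun _ => (1 : ℂ))
    rw [hproj1, classInner_isIrr_self hone, mul_one, one_smul, hT1] at h
    have := congrFun h a
    simpa using this.symm
  have hTdec : T = (k : ℂ) • Isotypic.proj ρ (fun _ => 1) + r • Isotypic.proj ρ (χ : G → ℂ) +
      s • Isotypic.proj ρ (ξ : G → ℂ) := by
    refine Isotypic.ext_irr ρ fun S hS x hx => ?_
    haveI := hS
    simp only [LinearMap.add_apply, LinearMap.smul_apply, Isotypic.proj_apply_irr ρ hone S hS hx,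
      Isotypic.proj_apply_irr ρ χ.2 S hS hx, Isotypic.proj_apply_irr ρ ξ.2 S hS hx]
    have hcase : (fun _ => (1 : ℂ)) = S.toRepresentation.character ∨
        (χ : G → ℂ) = S.toRepresentation.character ∨
        (ξ : G → ℂ) = S.toRepresentation.character := by
      by_contra hh
      rw [not_or, not_or] at hh
      apply Isotypic.constituent_of_irr ρ S hS
      have hS' := isIrrCharacter_character S.toRepresentation
      rw [hinner, classInner_isIrr_ne hone hS' hh.1, classInner_isIrr_ne χ.2 hS' hh.2.1,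
        classInner_isIrr_ne ξ.2 hS' hh.2.2, add_zero, add_zero]
    rcases hcase with h | h | h
    · rw [if_pos h, if_neg (fun h' => hne1 (h'.trans h.symm)),
        if_neg (fun h' => hne2 (h'.trans h.symm))]
      have := hc₀ x
      rw [Isotypic.proj_apply_irr ρ hone S hS hx, if_pos h, hc0] at this
      simpa using this
    · rw [if_pos h, if_neg (fun h' => hne1 (h.trans h'.symm)),
        if_neg (fun h' => hne12 (h.trans h'.symm))]
      have := hr x
      rw [Isotypic.proj_apply_irr ρ χ.2 S hS hx, if_pos h] at this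
      simpa using this
    · rw [if_pos h, if_neg (fun h' => hne2 (h.trans h'.symm)),
        if_neg (fun h' => hne12 (h'.trans h.symm))]
      have := hs x
      rw [Isotypic.proj_apply_irr ρ ξ.2 S hS hx, if_pos h] at this
      simpa using this
  have e1 : (k : ℂ) + (2 * p - 1) * r + p * s = 0 := by
    have htr : LinearMap.trace ℂ _ T = 0 := by
      rw [LinearMap.trace_eq_matrix_trace ℂ (Pi.basisFun ℂ Ω), LinearMap.toMatrix_eq_toMatrix',
        LinearMap.toMatrix'_toLin', Matrix.trace]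
      refine Finset.sum_eq_zero fun x _ => ?_
      have : ¬ Rel G a b x x := by
        rintro ⟨g, h1, h2⟩
        exact hab (MulAction.injective g (h2.trans h1.symm))
      simp [M0, Matrix.map_apply, this]
    rw [hTdec, map_add, map_add, map_smul, map_smul, map_smul, Isotypic.trace_proj,
      Isotypic.trace_proj, Isotypic.trace_proj, Isotypic.classInner_symm ρ hone,
      Isotypic.classInner_symm ρ χ.2, Isotypic.classInner_symm ρ ξ.2, hm0, hm1, hm2, hd₁, hd₂,
      Nat.cast_sub (by omega : 1 ≤ 2 * p)] at htr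
    simp only [smul_eq_mul] at htr
    push_cast at htr
    linear_combination htr
  have hTT : T ∘ₗ T = (k : ℂ) ^ 2 • Isotypic.proj ρ (fun _ => 1) +
      r ^ 2 • Isotypic.proj ρ (χ : G → ℂ) + s ^ 2 • Isotypic.proj ρ (ξ : G → ℂ) := by
    refine LinearMap.ext fun x => ?_
    rw [LinearMap.comp_apply]
    conv_lhs => arg 2; rw [hTdec]
    simp only [LinearMap.add_apply, LinearMap.smul_apply, map_add, map_smul, hc₀, hr, hs, hc0,
      smul_smul, sq]
  have hN : ∀ x y, ((M0 * M0) x y : ℂ) = LinearMap.toMatrix' (T ∘ₗ T) x y := by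
    intro x y
    rw [LinearMap.toMatrix'_comp, LinearMap.toMatrix'_toLin', ← Matrix.map_mul, Matrix.map_apply]
    rfl
  have e2 : (k : ℂ) ^ 2 + (2 * p - 1) * r ^ 2 + p * s ^ 2 = 3 * p * k := by
    have htr : LinearMap.trace ℂ _ (T ∘ₗ T) = (3 * p * k : ℕ) := by
      rw [LinearMap.trace_eq_matrix_trace ℂ (Pi.basisFun ℂ Ω), LinearMap.toMatrix_eq_toMatrix',
        Matrix.trace]
      have hdiag : ∀ x, Matrix.diag (LinearMap.toMatrix' (T ∘ₗ T)) x = (k : ℂ) := by
        intro x
        rw [Matrix.diag, ← hN, Matrix.mul_apply]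
        have : ∀ y, M0 x y * M0 y x = if Rel G a b x y then 1 else 0 := by
          intro y
          simp only [M0, Matrix.of_apply]
          by_cases h : Rel G a b x y
          · rw [if_pos h, if_pos (hsym x y h)]; ring
          · rw [if_neg h]; ring
        rw [Finset.sum_congr rfl fun y _ => this y, Finset.sum_boole, ← hrow x,
          Nat.card_eq_fintype_card, Fintype.card_subtype]
        simp
      rw [Finset.sum_congr rfl fun x _ => hdiag x, Finset.sum_const, Finset.card_univ,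
        ← Nat.card_eq_fintype_card, h.card_space, nsmul_eq_mul, ← Nat.cast_mul]
    rw [hTT, map_add, map_add, map_smul, map_smul, map_smul, Isotypic.trace_proj,
      Isotypic.trace_proj, Isotypic.trace_proj, Isotypic.classInner_symm ρ hone,
      Isotypic.classInner_symm ρ χ.2, Isotypic.classInner_symm ρ ξ.2, hm0, hm1, hm2, hd₁, hd₂,
      Nat.cast_sub (by omega : 1 ≤ 2 * p)] at htr
    simp only [smul_eq_mul] at htr
    push_cast at htr
    linear_combination htr
  -- an integral quadratic satisfied by both eigenvalues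
  set α := (M0 * M0) a a
  set β := (M0 * M0) a b
  set γ := (M0 * M0) a b₂
  have hinvN : ∀ (g : G) x y, (M0 * M0) (g • x) (g • y) = (M0 * M0) x y := by
    intro g x y
    rw [Matrix.mul_apply, Matrix.mul_apply]
    refine (Fintype.sum_equiv (MulAction.toPerm g) _ _ fun z => ?_).symm
    simp [M0, rel_smul]
  have hNform : ∀ x y, (M0 * M0) x y =
      (if x = y then α - γ else 0) + (β - γ) * M0 x y + γ := by
    intro x y
    by_cases hxy : x = y
    · subst hxy
      obtain ⟨g, rfl⟩ := MulAction.exists_smul_eq G a x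
      have : ¬ Rel G a b (g • a) (g • a) := by
        rintro ⟨h, h1, h2⟩
        exact hab (MulAction.injective h (h2.trans h1.symm))
      rw [hinvN, if_pos rfl]
      simp [M0, this, α]
    · rw [if_neg hxy]
      by_cases hR : Rel G a b x y
      · obtain ⟨g, rfl, rfl⟩ := hR
        have : Rel G a b (g • a) (g • b) := ⟨g, rfl, rfl⟩
        rw [hinvN]
        simp [M0, this, β]
      · obtain ⟨g, rfl, rfl⟩ := (hcases x y hxy).resolve_left hR
        rw [hinvN]
        simp [M0, hR, γ]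
  have hquad : ∀ (φ : G → ℂ) (t : ℂ), Cfsg.IsIrrCharacter G φ → φ ≠ (fun _ => 1) →
      Cfsg.classInner ρ.character φ = 1 → (∀ x, T (Isotypic.proj ρ φ x) = t • Isotypic.proj ρ φ x) →
      t ^ 2 = ((β - γ : ℤ) : ℂ) * t + ((α - γ : ℤ) : ℂ) := by
    intro φ t hφ hne hmult ht
    obtain ⟨x, hx⟩ : ∃ x, Isotypic.proj ρ φ x ≠ 0 := by
      by_contra hh
      simp only [not_exists, not_not] at hh
      have := Isotypic.trace_proj ρ φ
      rw [LinearMap.ext (g := 0) hh, map_zero, Isotypic.classInner_symm ρ hφ, hmult, mul_one]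
        at this
      exact irr_one_ne_zero hφ this.symm
    set w := Isotypic.proj ρ φ x with hw
    have hsum0 : ∑ y, w y = 0 := by
      let J : (Ω → ℂ) →ₗ[ℂ] (Ω → ℂ) := LinearMap.pi fun _ => ∑ y, LinearMap.proj y
      have hJ : ∀ v z, J v z = ∑ y, v y := by intro v z; simp [J]
      have hJi : Isotypic.IsInter ρ J := by
        intro g v
        funext z
        show J (fun y => v (g⁻¹ • y)) z = J v (g⁻¹ • z)
        rw [hJ, hJ]
        exact Fintype.sum_equiv (MulAction.toPerm g⁻¹) _ _ fun y => rfl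
      obtain ⟨c, hc⟩ := Isotypic.inter_comp_proj ρ hφ hmult hJi
      by_contra hS
      have h := hc x
      rw [← hw] at h
      have hcw : w = ((∑ y, w y) / c) • (fun _ => (1 : ℂ)) := by
        funext z
        have hz := congrFun h z
        rw [hJ, Pi.smul_apply, smul_eq_mul] at hz
        have hc0 : c ≠ 0 := fun h0 => hS (by rw [hz, h0, zero_mul])
        rw [Pi.smul_apply, smul_eq_mul, mul_one, hz, mul_div_cancel_left₀ _ hc0]
      have h2 : Isotypic.proj ρ φ w = w := Isotypic.proj_idem ρ hφ x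
      rw [hcw, map_smul, hproj1, classInner_isIrr_ne hφ hone hne, mul_zero, zero_smul,
        smul_zero, ← hcw] at h2
      exact hx h2.symm
    obtain ⟨z, hz⟩ : ∃ z, w z ≠ 0 := by
      by_contra hh
      simp only [not_exists, not_not] at hh
      exact hx (funext hh)
    have h1 : (T ∘ₗ T) w z = t ^ 2 * w z := by
      rw [hw, LinearMap.comp_apply, ht, map_smul, ht, smul_smul]
      simp [sq]
    have h2 : (T ∘ₗ T) w z = ((α - γ : ℤ) : ℂ) * w z + ((β - γ : ℤ) : ℂ) * (t * w z) := by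
      have hexp : (T ∘ₗ T) w z = ∑ y, ((M0 * M0) z y : ℂ) * w y := by
        conv_lhs => rw [← Matrix.toLin'_toMatrix' (T ∘ₗ T), Matrix.toLin'_apply]
        simp only [Matrix.mulVec, dotProduct, hN]
      rw [hexp]
      have hTz : t * w z = ∑ y, (M0 z y : ℂ) * w y := by
        have := congrFun (ht x) z
        rw [Pi.smul_apply, smul_eq_mul, hTapp] at this
        rw [← this]
        refine Finset.sum_congr rfl fun y _ => ?_
        simp only [M0, Matrix.of_apply]
        split_ifs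
        · rw [Int.cast_one, one_mul]
        · rw [Int.cast_zero, zero_mul]
      rw [hTz, Finset.mul_sum]
      have hsplit : ∀ y, ((M0 * M0) z y : ℂ) * w y = (if z = y then ((α - γ : ℤ) : ℂ) * w y else 0)
          + ((β - γ : ℤ) : ℂ) * ((M0 z y : ℂ) * w y) + (γ : ℂ) * w y := by
        intro y
        rw [hNform]
        split_ifs with h <;> push_cast <;> ring
      rw [Finset.sum_congr rfl fun y _ => hsplit y, Finset.sum_add_distrib, Finset.sum_add_distrib,
        Finset.sum_ite_eq, if_pos (Finset.mem_univ _), ← Finset.mul_sum (a := (γ : ℂ)), hsum0,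
        mul_zero, add_zero]
    rw [h1] at h2
    apply mul_right_cancel₀ hz
    linear_combination h2
  have q1 := hquad _ r χ.2 hne1 hm1 hr
  have q2 := hquad _ s ξ.2 hne2 hm2 hs
  set e : ℤ := β - γ
  set f : ℤ := α - γ
  have hint : IsIntegral ℤ r := by
    refine ⟨Polynomial.X ^ 2 - (Polynomial.C e * Polynomial.X + Polynomial.C f),
      Polynomial.monic_X_pow_sub ((Polynomial.degree_linear_le).trans_lt (by norm_num)), ?_⟩
    rw [Polynomial.eval₂_sub, Polynomial.eval₂_X_pow, Polynomial.eval₂_add, Polynomial.eval₂_mul,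
      Polynomial.eval₂_C, Polynomial.eval₂_C, Polynomial.eval₂_X, q1]
    simp
  obtain ⟨ri, si, hri, hsi⟩ : ∃ ri si : ℤ, r = ri ∧ s = si := by
    by_cases hrs : r = s
    · subst hrs
      obtain ⟨i, hi⟩ := int_of_isIntegral (d := 3 * (p : ℤ) - 1) (n := -(k : ℤ)) hint (by omega)
        (by push_cast; linear_combination e1)
      exact ⟨i, i, hi, hi⟩
    · have hsum' : r + s = e := by
        apply mul_left_cancel₀ (sub_ne_zero.2 hrs)
        linear_combination q1 - q2
      obtain ⟨i, hi⟩ := int_of_isIntegral (d := (p : ℤ) - 1) (n := -((k : ℤ) + p * e)) hint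
        (by omega) (by push_cast; linear_combination e1 - (p : ℂ) * hsum')
      exact ⟨i, e - i, hi, by push_cast; linear_combination hsum' - hi⟩
  subst hri hsi
  exact rank_three_arith h5 (by exact_mod_cast hk1) (by exact_mod_cast hk2) (by exact_mod_cast e1)
    (by exact_mod_cast e2)

end CfsgLib.DegreeThreeP
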