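import Cfsg.Agent.DegreeThreeP.Block

/-!
# Degree `3 p`: pairs of conjugates with product in `P`

With `w, w'` the values of `χ` at p-regular `u, v`, the number `N` of pairs of conjugates of `u` and
`v` with product `x` satisfies `N |C(u)| |C(v)| f (f + δ) = |G| (f - w) (f - w')`.  In particular all
involutions are conjugate.
-/

set_option autoImplicit false
set_option linter.unusedSectionVars false
set_option linter.style.haveILetI false

namespace CfsgLib.DegreeThreeP

open MulAction CfsgLib.Characters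
open scoped ComplexConjugate

universe u v

section General

variable {G : Type u} [Group G] [Fintype G]

/-- The number of `g` conjugate to `u` with `g⁻¹ x` conjugate to `v`. -/
noncomputable def npairs (u v x : G) : ℕ :=
  Nat.card {g : G // IsConj u g ∧ IsConj v (g⁻¹ * x)}

theorem card_conjugators {u g : G} (h : IsConj u g) :
    Nat.card {b : G // b * u * b⁻¹ = g} = Nat.card (Subgroup.centralizer ({u} : Set G)) :=
  Nat.cast_injective (R := ℂ) (by
    rw [← CfsgLib.Characters.sum_irr_mul_conj_of_isConj (IsConj.refl u)]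
    obtain ⟨c, rfl⟩ := isConj_iff.1 h
    rw [CfsgLib.Characters.sum_irr_mul_conj_of_isConj (IsConj.refl u)]
    congr 1
    refine Nat.card_congr
      { toFun := fun b => ⟨c⁻¹ * b.1, ?_⟩
        invFun := fun k => ⟨c * k.1, ?_⟩
        left_inv := fun b => Subtype.ext (by simp)
        right_inv := fun k => Subtype.ext (by simp) }
    · have := b.2
      rw [Subgroup.mem_centralizer_singleton_iff]
      calc c⁻¹ * b.1 * u = c⁻¹ * (b.1 * u * b.1⁻¹) * b.1 := by group
        _ = u * (c⁻¹ * b.1) := by rw [this]; group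
    · have := Subgroup.mem_centralizer_singleton_iff.1 k.2
      calc c * k.1 * u * (c * k.1)⁻¹ = c * (k.1 * u) * k.1⁻¹ * c⁻¹ := by group
        _ = c * u * c⁻¹ := by rw [this]; group)

theorem npairs_spec (u v x : G) :
    (npairs u v x : ℂ) * Nat.card (Subgroup.centralizer ({u} : Set G)) *
        Nat.card (Subgroup.centralizer ({v} : Set G)) =
      (Nat.card G : ℂ) * ∑ ψ : Cfsg.IrrCharacter G,
        conj ((ψ : G → ℂ) x) * ((ψ : G → ℂ) u * (ψ : G → ℂ) v / (ψ : G → ℂ) 1) := by
  classical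
  have h := CfsgLib.ClassPairs.card_pairs u v ({x} : Finset G)
  simp only [Finset.sum_singleton, Finset.mem_singleton] at h
  rw [← h]
  set c := Nat.card (Subgroup.centralizer ({u} : Set G)) with hc
  set d := Nat.card (Subgroup.centralizer ({v} : Set G)) with hd
  set A := Finset.univ.filter (fun g : G => IsConj u g ∧ IsConj v (g⁻¹ * x)) with hA
  have hnA : npairs u v x = A.card := by
    rw [npairs, Nat.card_eq_fintype_card, Fintype.card_subtype]
  have hstep : ∀ a : G, (∑ b : G, if a * u * a⁻¹ * (b * v * b⁻¹) = x then (1 : ℂ) else 0) =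
      if a * u * a⁻¹ ∈ A then (d : ℂ) else 0 := by
    intro a
    rw [Finset.sum_boole]
    split_ifs with hmem
    · obtain ⟨-, -, hvx⟩ := Finset.mem_filter.1 hmem
      congr 1
      rw [hd, ← card_conjugators hvx, Nat.card_eq_fintype_card, Fintype.card_subtype]
      congr 1
      ext b
      simp only [Finset.mem_filter, Finset.mem_univ, true_and]
      exact (eq_inv_mul_iff_mul_eq).symm
    · rw [Nat.cast_eq_zero, Finset.card_eq_zero, Finset.filter_eq_empty_iff]
      intro b _ hb
      refine hmem (Finset.mem_filter.2 ⟨Finset.mem_univ _, isConj_iff.2 ⟨a, rfl⟩, ?_⟩)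
      exact isConj_iff.2 ⟨b, eq_inv_mul_iff_mul_eq.2 hb⟩
  rw [Finset.sum_congr rfl fun a _ => hstep a, ← Finset.sum_filter, Finset.sum_const, nsmul_eq_mul]
  congr 1
  have hfib : ∀ i ∈ A, ((Finset.univ.filter fun a : G => a * u * a⁻¹ ∈ A).filter
      fun a => a * u * a⁻¹ = i).card = c := by
    intro i hi
    rw [Finset.filter_filter, hc, ← card_conjugators (Finset.mem_filter.1 hi).2.1,
      Nat.card_eq_fintype_card, Fintype.card_subtype]
    congr 1
    ext a
    simp only [Finset.mem_filter, Finset.mem_univ, true_and, and_iff_right_iff_imp]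
    exact fun e => e ▸ hi
  rw [Finset.card_eq_sum_card_fiberwise (t := A) (f := fun a => a * u * a⁻¹)
    (s := Finset.univ.filter fun a : G => a * u * a⁻¹ ∈ A)
    (fun a ha => (Finset.mem_filter.1 ha).2), Finset.sum_congr rfl hfib, Finset.sum_const, hnA,
    smul_eq_mul]
  push_cast
  ring

end General

variable {p : ℕ} [hpf : Fact p.Prime] {G : Type u} [Group G] [Fintype G] {Ω : Type v} [Fintype Ω]
  [MulAction G Ω] {P : Sylow p G} (h : Hyp p Ω P) {δ : ℤ} {f : ℕ} {χ : Cfsg.IrrCharacter G}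
  {Y : Finset (Cfsg.IrrCharacter G)} (hE : Exc p δ f χ Y) (hf : 1 < f)

include h hE hf

theorem Hyp.pairs_eq {x : G} (hxP : x ∈ (P : Subgroup G)) (hx1 : x ≠ 1) {u v : G}
    (hu : ¬ p ∣ orderOf u) (hv : ¬ p ∣ orderOf v) :
    (npairs u v x : ℂ) * Nat.card (Subgroup.centralizer ({u} : Set G)) *
        Nat.card (Subgroup.centralizer ({v} : Set G)) * ((f : ℂ) * ((f : ℂ) + δ)) =
      (Nat.card G : ℂ) * (((f : ℂ) - (χ : G → ℂ) u) * ((f : ℂ) - (χ : G → ℂ) v)) := by
  classical
  have hxo : p ∣ orderOf x := by rw [h.orderOf_mem hxP hx1]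
  rw [npairs_spec, mul_assoc]
  congr 1
  have hdisj : Disjoint ({one G, χ} : Finset (Cfsg.IrrCharacter G)) Y := by
    rw [Finset.disjoint_left]
    intro ψ hψ hψY
    simp only [Finset.mem_insert, Finset.mem_singleton] at hψ
    rcases hψ with rfl | rfl
    · exact hE.one_notMem hψY
    · exact hE.chi_notMem hψY
  have h1 : ¬ p ∣ orderOf (1 : G) := by rw [orderOf_one]; exact hpf.out.not_dvd_one
  rw [← Finset.sum_subset (Finset.subset_univ ({one G, χ} ∪ Y)) ?_, Finset.sum_union hdisj,
    Finset.sum_pair (Ne.symm hE.ne), Finset.sum_congr rfl (s₁ := Y)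
      (g := fun θ => conj ((θ : G → ℂ) x) *
        ((((χ : G → ℂ) u + δ) * ((χ : G → ℂ) v + δ)) / ((f : ℂ) + δ)))
      (fun θ hθ => by rw [hE.exc θ hθ u hu, hE.exc θ hθ v hv, hE.exc θ hθ 1 h1, hE.degree]),
    ← Finset.sum_mul, ← map_sum, hE.exc_sing x hxo, hE.sing x hxo, hE.degree]
  · have hf0 : (f : ℂ) ≠ 0 := Nat.cast_ne_zero.2 (by omega)
    have hfd : (f : ℂ) + δ ≠ 0 := by
      intro e
      have : (f : ℤ) + δ = 0 := by exact_mod_cast e
      rcases hE.sign with rfl | rfl <;> omega
    have hd : (δ : ℂ) * δ = 1 := by rcases hE.sign with rfl | rfl <;> norm_num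
    simp only [one_apply, map_one, mul_one, one_mul, div_one, map_neg, map_intCast]
    field_simp
    linear_combination ((χ : G → ℂ) u * (χ : G → ℂ) v -
      (f : ℂ) * ((χ : G → ℂ) u + (χ : G → ℂ) v) - δ * f) * hd
  · intro ψ _ hψ
    simp only [Finset.mem_union, Finset.mem_insert, Finset.mem_singleton, not_or] at hψ
    rw [hE.out ψ hψ.1.1 hψ.1.2 hψ.2 x hxo, map_zero, zero_mul]

/-- All involutions are conjugate to an inverting one. -/
theorem Hyp.isConj_involution {x t : G} (hxP : x ∈ (P : Subgroup G)) (hx1 : x ≠ 1)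
    (hto : orderOf t = 2) (htx : t * x * t⁻¹ = x⁻¹) {u : G} (hu : orderOf u = 2) :
    IsConj t u := by
  by_contra hn
  have hsq : ∀ g : G, IsConj u g → g * g = 1 := by
    intro g hg
    obtain ⟨c, rfl⟩ := isConj_iff.1 hg
    have huu : u * u = 1 := by rw [← pow_two, ← hu, pow_orderOf_eq_one]
    calc c * u * c⁻¹ * (c * u * c⁻¹) = c * (u * u) * c⁻¹ := by group
      _ = 1 := by rw [huu, mul_one, mul_inv_cancel]
  have htt : t * t = 1 := by rw [← pow_two, ← hto, pow_orderOf_eq_one]
  have h0 : npairs u u x = 0 := by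
    rw [npairs, Nat.card_eq_zero]
    refine Or.inl ⟨fun ⟨g, hg1, hg2⟩ => hn ?_⟩
    have hgg := hsq g hg1
    have hhh := hsq _ hg2
    have hgi : g⁻¹ = g := inv_eq_of_mul_eq_one_right hgg
    rw [hgi] at hhh
    have hgx : g * x * g⁻¹ = x⁻¹ := by
      rw [hgi]
      exact (inv_eq_of_mul_eq_one_left (by rw [← mul_assoc] at hhh; exact hhh)).symm
    exact (h.isConj_inverting hxP hx1 htt htx hgx).trans hg1.symm
  have hreg : ¬ p ∣ orderOf u := by
    rw [hu]
    intro hd
    have := Nat.le_of_dvd two_pos hd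
    have := h.five
    omega
  have hh := h.pairs_eq hE hf hxP hx1 hreg hreg
  rw [h0, Nat.cast_zero, zero_mul, zero_mul, zero_mul, eq_comm, mul_eq_zero,
    or_iff_right natCard_ne_zero, mul_self_eq_zero, sub_eq_zero, ← hE.degree] at hh
  rw [hE.faith u hh.symm, orderOf_one] at hu
  omega

/-- The order equation at an inverting involution. -/
theorem Hyp.order_eq {x t : G} (hxP : x ∈ (P : Subgroup G)) (hx1 : x ≠ 1)
    (hto : orderOf t = 2) (htx : t * x * t⁻¹ = x⁻¹) {w : ℤ} (hw : (χ : G → ℂ) t = w) :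
    (p : ℤ) * (Nat.card (Subgroup.centralizer ({t} : Set G))) *
        (Nat.card (Subgroup.centralizer ({t} : Set G))) * ((f : ℤ) * ((f : ℤ) + δ)) =
      (Nat.card G : ℤ) * (((f : ℤ) - w) * ((f : ℤ) - w)) := by
  have htt : t * t = 1 := by rw [← pow_two, ← hto, pow_orderOf_eq_one]
  have htx' : t * x * t = x⁻¹ := by
    rw [← htx, inv_eq_of_mul_eq_one_right htt]
  have hp : npairs t t x = p := by
    conv_rhs => rw [← h.card_P]
    refine Nat.card_congr
      { toFun := fun g => ⟨t * g.1, ?_⟩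
        invFun := fun k => ⟨t * k.1, ?_⟩
        left_inv := fun g => Subtype.ext (by simp [← mul_assoc, htt])
        right_inv := fun k => Subtype.ext (by simp [← mul_assoc, htt]) }
    · obtain ⟨hg1, hg2⟩ := g.2
      have hgg : g.1 * g.1 = 1 := by
        obtain ⟨c, hc⟩ := isConj_iff.1 hg1
        rw [← hc]
        calc c * t * c⁻¹ * (c * t * c⁻¹) = c * (t * t) * c⁻¹ := by group
          _ = 1 := by rw [htt, mul_one, mul_inv_cancel]
      have hgi : g.1⁻¹ = g.1 := inv_eq_of_mul_eq_one_right hgg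
      have hhh : g.1 * x * (g.1 * x) = 1 := by
        obtain ⟨c, hc⟩ := isConj_iff.1 hg2
        rw [hgi] at hc
        rw [← hc]
        calc c * t * c⁻¹ * (c * t * c⁻¹) = c * (t * t) * c⁻¹ := by group
          _ = 1 := by rw [htt, mul_one, mul_inv_cancel]
      rw [← h.centralizer_mem hxP hx1, Subgroup.mem_centralizer_singleton_iff]
      have e1 : g.1 * x = x⁻¹ * g.1 := by
        calc g.1 * x = (g.1 * x)⁻¹ := (inv_eq_of_mul_eq_one_right hhh).symm
          _ = x⁻¹ * g.1 := by rw [mul_inv_rev, hgi]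
      have e2 : t * x⁻¹ = x * t := by
        have h6 : t * x⁻¹ * t⁻¹ = x := by rw [← conj_inv, htx, inv_inv]
        exact mul_inv_eq_iff_eq_mul.1 h6
      rw [mul_assoc, e1, ← mul_assoc, e2, mul_assoc]
    · have hk2 := k.2
      have hkz : (k.1 : G) ∈ Subgroup.zpowers x := by rw [h.zpowers_mem hxP hx1]; exact hk2
      obtain ⟨n, hn⟩ := mem_powers_iff_mem_zpowers.2 hkz
      have hn : x ^ n = k.1 := hn
      have e1 : t * k.1 * t⁻¹ = (k.1 : G)⁻¹ := by rw [← hn, ← conj_pow, htx, inv_pow]
      have hcx : k.1 * x * (k.1 : G)⁻¹ = x := by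
        rw [← hn, ← pow_succ, pow_succ', mul_inv_cancel_right]
      have hconj : t * k.1 * x * (t * k.1)⁻¹ = x⁻¹ := by
        calc t * k.1 * x * (t * k.1)⁻¹ = t * (k.1 * x * (k.1 : G)⁻¹) * t⁻¹ := by group
          _ = x⁻¹ := by rw [hcx, htx]
      have hsq : t * k.1 * (t * k.1) = 1 := by
        calc t * k.1 * (t * k.1) = t * k.1 * t⁻¹ * (t * t) * k.1 := by group
          _ = 1 := by rw [e1, htt, mul_one, inv_mul_cancel]
      refine ⟨h.isConj_inverting hxP hx1 htt htx hconj, ?_⟩
      refine h.isConj_inverting hxP hx1 htt htx ?_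
      rw [inv_eq_of_mul_eq_one_right hsq]
      calc t * k.1 * x * x * (t * k.1 * x)⁻¹ = t * k.1 * x * (t * k.1)⁻¹ := by group
        _ = x⁻¹ := hconj
  have hreg : ¬ p ∣ orderOf t := by
    rw [hto]
    intro hd
    have := Nat.le_of_dvd two_pos hd
    have := h.five
    omega
  have hh := h.pairs_eq hE hf hxP hx1 hreg hreg
  rw [hp, hw] at hh
  exact_mod_cast hh

end CfsgLib.DegreeThreeP
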