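import Cfsg.Agent.DegreeThreeP.CaseOne
import Cfsg.Agent.S4706

/-!
# Degree `3 p`: the imprimitive case

A point stabilizer lies in a proper subgroup of index `p`, so the group acts on `p` letters and is
`SL(2, 2ᵃ)` with `p = 2ᵃ + 1`.
-/

set_option autoImplicit false
set_option linter.unusedSectionVars false
set_option linter.style.haveILetI false

namespace CfsgLib.DegreeThreeP

open MulAction CfsgLib.CAGroups

universe u v

variable {p : ℕ} [hpf : Fact p.Prime] {G : Type u} [Group G] [Fintype G] {Ω : Type v} [Fintype Ω]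
  [MulAction G Ω] {P : Sylow p G} (h : Hyp p Ω P)

include h

/-- The imprimitive groups. -/
theorem Hyp.imprimitive (hni : ¬ IsPreprimitive G Ω) :
    ∃ (F : Type) (_ : Field F) (_ : Fintype F) (m : ℕ), Fintype.card F = 2 ^ m ∧ p = 2 ^ m + 1 ∧
      Nonempty (G ≃* Matrix.ProjectiveSpecialLinearGroup (Fin 2) F) := by
  classical
  haveI := h.trans
  haveI := h.simple
  have hp := hpf.out
  have h5 := h.five
  haveI : Nontrivial Ω := Finite.one_lt_card_iff_nontrivial.1 (by rw [h.card_space]; omega)
  obtain ⟨b⟩ : Nonempty Ω := inferInstance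
  have hidx : (stabilizer G b).index = 3 * p := by
    rw [index_stabilizer_of_transitive, h.card_space]
  rw [← isCoatom_stabilizer_iff_preprimitive (G := G) b] at hni
  have hne : stabilizer G b ≠ ⊤ := fun e => by
    rw [e, Subgroup.index_top] at hidx
    omega
  obtain ⟨H, hlt, hH⟩ : ∃ H : Subgroup G, stabilizer G b < H ∧ H ≠ ⊤ := by
    by_contra hcon
    push Not at hcon
    exact hni ⟨hne, hcon⟩
  have hmul := Subgroup.relIndex_mul_index hlt.le
  rw [hidx] at hmul
  have hrel : (stabilizer G b).relIndex H ≠ 1 := fun e =>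
    hlt.not_ge (Subgroup.relIndex_eq_one.1 e)
  have hHi : H.index ≠ 1 := fun e => hH (Subgroup.index_eq_one.1 e)
  have hpG : p ∣ Nat.card G := h.card_P ▸ Subgroup.card_subgroup_dvd_card _
  have hHp : H.index = p := by
    obtain ⟨a₁, b₁, ha, hb, hab⟩ := Nat.dvd_mul.1 (Dvd.intro_left _ hmul : H.index ∣ 3 * p)
    rcases (Nat.dvd_prime Nat.prime_three).1 ha with ha' | ha' <;>
      rcases (Nat.dvd_prime hp).1 hb with hb' | hb' <;> rw [ha', hb'] at hab
    · omega
    · omega
    · exfalso
      have hd := CfsgLib.Small.two_mul_card_dvd_factorial_index h.nonabelian H hH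
      rw [← hab, show Nat.factorial (3 * 1) = 6 from rfl] at hd
      have := Nat.le_of_dvd (by norm_num) ((dvd_mul_of_dvd_right hpG 2).trans hd)
      have h6 : 2 * p ≤ 6 := Nat.le_of_dvd (by norm_num) ((mul_dvd_mul_left 2 hpG).trans hd)
      omega
    · exfalso
      rw [← hab] at hmul
      have : (stabilizer G b).relIndex H = 1 :=
        Nat.eq_of_mul_eq_mul_right (show 0 < 3 * p by omega) (by rw [hmul, one_mul])
      exact hrel this
  -- the action on the cosets
  letI : Fintype (G ⧸ H) := Fintype.ofFinite _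
  set f := MulAction.toPermHom G (G ⧸ H) with hf
  have hinj : Function.Injective f := by
    rw [← MonoidHom.ker_eq_bot_iff]
    refine (h.eq_bot_or_eq_top f.ker).resolve_right fun e => hH (Subgroup.eq_top_iff' H |>.2 ?_)
    intro g
    have : f g = 1 := MonoidHom.mem_ker.1 (by rw [e]; exact Subgroup.mem_top g)
    have h1 := congrArg (fun σ : Equiv.Perm (G ⧸ H) => σ ((1 : G) : G ⧸ H)) this
    simp only [hf, MulAction.toPermHom_apply, MulAction.toPerm_apply, MulAction.Quotient.smul_coe,
      smul_eq_mul, mul_one, Equiv.Perm.one_apply] at h1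
    simpa using inv_mem (QuotientGroup.eq.1 h1)
  set e := MonoidHom.ofInjective hinj
  set Q := P.mapSurjective (f := e.toMonoidHom) e.surjective
  have hQN : Nat.card (Subgroup.normalizer ((Q : Subgroup f.range) : Set f.range)) = 2 * p := by
    rw [show (Q : Subgroup f.range) = (P : Subgroup G).map e.toMonoidHom from rfl,
      ← Subgroup.map_equiv_normalizer_eq, ← h.card_norm]
    exact (Nat.card_congr (Subgroup.equivMapOfInjective _ _ e.injective).toEquiv).symm
  rcases Cfsg.Agent.S4706.result (by omega) (by rw [← Nat.card_eq_fintype_card]; exact hHp) f.range Q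
    hQN with hn | ⟨a, F, iF, iFt, hpa, hF, ⟨e'⟩⟩
  · exfalso
    have : (P : Subgroup G).Normal := by
      constructor
      intro w hw g
      have := hn.conj_mem (e w) (Subgroup.mem_map_of_mem _ hw) (e g)
      obtain ⟨y, hy, hye⟩ := this
      have : y = g * w * g⁻¹ := e.injective (by rw [map_mul, map_mul, map_inv]; exact hye)
      rwa [this] at hy
    rcases h.eq_bot_or_eq_top (P : Subgroup G) with hb | hb
    · have := h.card_P
      rw [hb, Subgroup.card_bot] at this
      omega
    · have h1 := h.card_P
      have h2 := h.card_norm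
      rw [hb] at h1 h2
      rw [Subgroup.normalizer_eq_top_iff.2 (inferInstance : (⊤ : Subgroup G).Normal)] at h2
      omega
  · haveI : CharP F 2 := charP_of_card_eq_prime_pow hF
    exact ⟨F, iF, iFt, a, hF, hpa, ⟨(e.trans e').trans sl2EquivPSL2⟩⟩

end CfsgLib.DegreeThreeP
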