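import Cfsg.Agent.DegreeThreeP.Imprimitive
import Cfsg.Agent.DegreeThreeP.TwoTrans.Main
import Cfsg.Agent.S0497

/-!
# Simple transitive groups of degree `3 p` with Sylow normalizer of order `2 p`
-/

set_option autoImplicit false
set_option linter.unusedSectionVars false
set_option linter.style.haveILetI false

namespace CfsgLib.DegreeThreeP

open MulAction

universe u v

variable {p : ℕ} [hpf : Fact p.Prime] {G : Type u} [Group G] [Fintype G] {Ω : Type v} [Fintype Ω]
  [MulAction G Ω] {P : Sylow p G} (h : Hyp p Ω P)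

include h

/-- The primitive groups. -/
theorem Hyp.primitive (hprim : IsPreprimitive G Ω) :
    p = 5 ∧ Nonempty (G ≃* ↥(alternatingGroup (Fin 6))) := by
  haveI := h.simple
  have h5 := h.five
  have hodd := h.odd
  rcases h.cases with ⟨χ, hdeg, hfaith⟩ | ⟨χ, Y, hE, hπ⟩ |
    ⟨χ, Y, ξ, hE, h1, h2, h3, hd, hπ⟩ | ⟨hp5, χ, Y, hE, hπ⟩
  · exact (h.false_of_linear hdeg hfaith hprim).elim
  · exfalso
    by_cases hp4 : p % 4 = 1
    · exact h.false_of_two_trans_one hE hπ hp4
    · exact h.false_of_two_trans_three hE hπ (by omega)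
  · obtain ⟨hp, hG⟩ := h.rank_three hE h1 h2 h3 hd hπ
    exact ⟨hp, Cfsg.Agent.S0497.result hG⟩
  · exact (h.false_of_plus hp5 hE hπ).elim

end CfsgLib.DegreeThreeP
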