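import Cfsg.Agent.DegreeThreeP.Sylow

/-!
# Counting orbits and fixed points of subgroups

The orbit counting identity, a bound on the number of orbits when the orbits outside a set are
long, fixed point sets and the stabilizer of a set.
-/

set_option autoImplicit false
set_option linter.unusedSectionVars false
set_option linter.style.haveILetI false

namespace CfsgLib.DegreeThreeP

open MulAction

universe u v

variable {G : Type u} [Group G] {Ω : Type v} [Fintype Ω] [MulAction G Ω]

open scoped Classical in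
/-- The fixed points of an element. -/
noncomputable def fixF (Ω : Type v) [Fintype Ω] [MulAction G Ω] (g : G) : Finset Ω :=
  Finset.univ.filter fun x => g • x = x

theorem mem_fixF {g : G} {x : Ω} : x ∈ fixF Ω g ↔ g • x = x := by classical simp [fixF]

theorem card_fixF (g : G) : (fixF Ω g).card = fx Ω g := by
  classical
  rw [fixF, ← Fintype.card_subtype, ← Nat.card_eq_fintype_card]
  rfl

open scoped Classical in
/-- The fixed points of a subgroup. -/
noncomputable def fixS (H : Subgroup G) : Finset Ω :=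
  Finset.univ.filter fun x => ∀ g ∈ H, g • x = x

theorem mem_fixS {H : Subgroup G} {x : Ω} : x ∈ fixS H ↔ ∀ g ∈ H, g • x = x := by
  classical simp [fixS]

theorem mem_fixS_iff_le {H : Subgroup G} {x : Ω} : x ∈ fixS H ↔ H ≤ stabilizer G x := mem_fixS

open scoped Classical in
/-- The orbits of `H` meeting `F`. -/
noncomputable def orbs (H : Subgroup G) (F : Finset Ω) : Finset (Finset Ω) :=
  F.image fun x => orb H x

theorem orb_fiber {H : Subgroup G} {F : Finset Ω} [DecidableEq (Finset Ω)]
    (hinv : ∀ g ∈ H, ∀ x ∈ F, g • x ∈ F) {x : Ω} (hx : x ∈ F) :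
    F.filter (fun y => orb H y = orb H x) = orb H x := by
  ext y
  simp only [Finset.mem_filter]
  constructor
  · rintro ⟨-, hy⟩
    exact hy ▸ orb_self H y
  · intro hy
    obtain ⟨g, hg, rfl⟩ := mem_orb.1 hy
    exact ⟨hinv g hg x hx, orb_eq hy⟩

/-- Orbit counting. -/
theorem sum_card_stab [Finite G] (H : Subgroup G) (F : Finset Ω)
    (hinv : ∀ g ∈ H, ∀ x ∈ F, g • x ∈ F) :
    ∑ x ∈ F, Nat.card (H ⊓ stabilizer G x : Subgroup G) = (orbs H F).card * Nat.card H := by
  classical
  rw [← Finset.sum_fiberwise_of_maps_to (g := fun x => orb H x) (t := orbs H F)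
    (fun x hx => Finset.mem_image_of_mem _ hx), ← smul_eq_mul, ← Finset.sum_const]
  refine Finset.sum_congr rfl fun O hO => ?_
  obtain ⟨x, hx, rfl⟩ := Finset.mem_image.1 hO
  rw [orb_fiber hinv hx]
  have h0 : 0 < (orb H x).card := Finset.card_pos.2 ⟨x, orb_self H x⟩
  refine Nat.eq_of_mul_eq_mul_left h0 ?_
  rw [Finset.mul_sum, Finset.sum_congr rfl (g := fun _ => Nat.card H) fun y hy => ?_,
    Finset.sum_const, smul_eq_mul]
  conv_lhs => rw [← orb_eq hy]
  exact card_orb_mul H y

/-- Orbit counting by fixed points. -/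
theorem sum_fix [Fintype G] (H : Subgroup G) [Fintype H] :
    ∑ g : H, fx Ω (g : G) = (orbs H (Finset.univ : Finset Ω)).card * Nat.card H := by
  classical
  rw [← sum_card_stab H _ fun _ _ _ _ => Finset.mem_univ _]
  have h1 : ∀ g : H, fx Ω (g : G) = ∑ x : Ω, if (g : G) • x = x then 1 else 0 := fun g => by
    rw [← card_fixF, fixF, Finset.card_filter]
  rw [Finset.sum_congr rfl fun g _ => h1 g, Finset.sum_comm]
  refine Finset.sum_congr rfl fun x _ => ?_
  rw [← Finset.card_filter, ← Fintype.card_subtype, ← Nat.card_eq_fintype_card]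
  exact Nat.card_congr
    { toFun := fun g => ⟨g.1.1, g.1.2, g.2⟩
      invFun := fun g => ⟨⟨g.1, g.2.1⟩, g.2.2⟩
      left_inv := fun _ => rfl
      right_inv := fun _ => rfl }

/-- Long orbits outside `Φ` bound the number of orbits. -/
theorem orbs_bound (H : Subgroup G) (Φ : Finset Ω) {r : ℕ} (hr : 1 ≤ r)
    (hlong : ∀ x : Ω, x ∉ Φ → r ≤ (orb H x).card) :
    r * (orbs H (Finset.univ : Finset Ω)).card ≤ Fintype.card Ω + (r - 1) * Φ.card := by
  classical
  have hfib : ∀ O ∈ orbs H (Finset.univ : Finset Ω),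
      r ≤ (Finset.univ.filter fun x => orb H x = O).card +
        (r - 1) * (Φ.filter fun x => orb H x = O).card := by
    intro O hO
    obtain ⟨x, -, rfl⟩ := Finset.mem_image.1 hO
    rw [orb_fiber (fun _ _ _ _ => Finset.mem_univ _) (Finset.mem_univ x)]
    rcases (Φ.filter fun y => orb H y = orb H x).eq_empty_or_nonempty with he | he
    · have hx : x ∉ Φ := fun hx => Finset.notMem_empty x (he ▸ Finset.mem_filter.2 ⟨hx, rfl⟩)
      exact (hlong x hx).trans (Nat.le_add_right _ _)
    · have h1 : 1 ≤ (orb H x).card := Finset.card_pos.2 ⟨x, orb_self H x⟩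
      have h2 : (r - 1) * 1 ≤ (r - 1) * (Φ.filter fun y => orb H y = orb H x).card :=
        Nat.mul_le_mul_left _ (Finset.card_pos.2 he)
      omega
  have h1 := Finset.sum_le_sum hfib
  have e1 : (Finset.univ : Finset Ω).card =
      ∑ O ∈ orbs H (Finset.univ : Finset Ω), (Finset.univ.filter fun x => orb H x = O).card :=
    Finset.card_eq_sum_card_fiberwise fun x hx => Finset.mem_image_of_mem _ hx
  have e2 : Φ.card = ∑ O ∈ orbs H (Finset.univ : Finset Ω), (Φ.filter fun x => orb H x = O).card :=
    Finset.card_eq_sum_card_fiberwise fun x _ => Finset.mem_image_of_mem _ (Finset.mem_univ x)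
  rw [Finset.sum_const, smul_eq_mul, Finset.sum_add_distrib, ← Finset.mul_sum, ← e1, ← e2,
    Finset.card_univ] at h1
  rwa [mul_comm r]

/-- The stabilizer of a set of points. -/
def setStab (F : Finset Ω) : Subgroup G where
  carrier := {g | ∀ x, g • x ∈ F ↔ x ∈ F}
  one_mem' x := by rw [one_smul]
  mul_mem' {g k} hg hk x := by rw [mul_smul, hg, hk]
  inv_mem' {g} hg x := by rw [← hg, smul_inv_smul]

theorem mem_setStab {F : Finset Ω} {g : G} : g ∈ setStab F ↔ ∀ x, g • x ∈ F ↔ x ∈ F := Iff.rfl

/-- The stabilizer of three points. -/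
def tri (G : Type u) [Group G] {Ω : Type v} [MulAction G Ω] (x y z : Ω) : Subgroup G :=
  stabilizer G x ⊓ stabilizer G y ⊓ stabilizer G z

theorem mem_tri {x y z : Ω} {g : G} :
    g ∈ tri G x y z ↔ g • x = x ∧ g • y = y ∧ g • z = z := by
  rw [tri, Subgroup.mem_inf, Subgroup.mem_inf, mem_stabilizer_iff, mem_stabilizer_iff,
    mem_stabilizer_iff, and_assoc]

theorem tri_map (g : G) (x y z : Ω) :
    (tri G x y z).map (MulAut.conj g).toMonoidHom = tri G (g • x) (g • y) (g • z) := by
  ext k
  constructor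
  · rintro ⟨l, hl, rfl⟩
    obtain ⟨h1, h2, h3⟩ := mem_tri.1 hl
    refine mem_tri.2 ?_
    show (g * l * g⁻¹) • _ = _ ∧ (g * l * g⁻¹) • _ = _ ∧ (g * l * g⁻¹) • _ = _
    simp [mul_smul, h1, h2, h3]
  · intro hk
    obtain ⟨h1, h2, h3⟩ := mem_tri.1 hk
    refine ⟨g⁻¹ * k * g, mem_tri.2 ?_, ?_⟩
    · simp [mul_smul, h1, h2, h3]
    · show g * (g⁻¹ * k * g) * g⁻¹ = k
      group

theorem card_map_conj (g : G) (H : Subgroup G) :
    Nat.card (H.map (MulAut.conj g).toMonoidHom) = Nat.card H :=
  (Nat.card_congr (Subgroup.equivMapOfInjective _ _ (MulAut.conj g).injective).toEquiv).symm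

theorem mem_fixS_map {g : G} {H : Subgroup G} {x : Ω} :
    g • x ∈ fixS (H.map (MulAut.conj g).toMonoidHom) ↔ x ∈ fixS H := by
  simp only [mem_fixS]
  constructor
  · intro hx k hk
    have := hx _ (Subgroup.mem_map_of_mem _ hk)
    simpa [mul_smul] using this
  · rintro hx _ ⟨k, hk, rfl⟩
    simp [mul_smul, hx k hk]

theorem card_fixS_map (g : G) (H : Subgroup G) :
    (fixS (H.map (MulAut.conj g).toMonoidHom) : Finset Ω).card = (fixS H : Finset Ω).card := by
  classical
  rw [show (fixS (H.map (MulAut.conj g).toMonoidHom) : Finset Ω) =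
    (fixS H : Finset Ω).image (g • ·) by
      ext y
      rw [Finset.mem_image]
      constructor
      · intro hy
        rw [← smul_inv_smul g y, mem_fixS_map] at hy
        exact ⟨g⁻¹ • y, hy, smul_inv_smul g y⟩
      · rintro ⟨x, hx, rfl⟩
        exact mem_fixS_map.2 hx]
  exact Finset.card_image_of_injective _ (MulAction.injective g)

/-- An element fixing the subgroup stabilizes its fixed points. -/
theorem mem_setStab_of_map_eq {g : G} {H : Subgroup G}
    (hg : H.map (MulAut.conj g).toMonoidHom = H) : g ∈ setStab (fixS H : Finset Ω) := by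
  intro x
  conv_lhs => rw [← hg]
  exact mem_fixS_map

/-- Orbit lengths of nested subgroups with the same point stabilizer. -/
theorem orb_card_dvd [Finite G] {L K : Subgroup G} (hLK : L ≤ K) (x : Ω)
    (hst : K ⊓ stabilizer G x ≤ L) : (orb L x).card ∣ (orb K x).card := by
  have e : L ⊓ stabilizer G x = K ⊓ stabilizer G x :=
    le_antisymm (inf_le_inf_right _ hLK) (le_inf hst inf_le_right)
  have h0 : 0 < Nat.card (K ⊓ stabilizer G x : Subgroup G) := Nat.card_pos
  refine Nat.dvd_of_mul_dvd_mul_right h0 ?_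
  rw [card_orb_mul]
  rw [← e, card_orb_mul]
  exact Subgroup.card_dvd_of_le hLK

end CfsgLib.DegreeThreeP
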