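import Mathlib.GroupTheory.Sylow
import Mathlib.GroupTheory.Transfer
import Mathlib.GroupTheory.Perm.Cycle.Type
import Mathlib.GroupTheory.GroupAction.Basic
import Cfsg.Agent.BlocksCyclic.Main
import Cfsg.Agent.S4441

/-!
# Simple transitive groups of degree `3 p` with a Sylow normaliser of order `2 p`: first facts

The Sylow `p`-subgroup `P` has order `p`, is self-centralizing and acts semiregularly; all
elements are even permutations; the involutions inverting `P` are conjugate and fix one point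
when `p ≡ 3` and three points when `p ≡ 1` modulo four.
-/

set_option autoImplicit false
set_option linter.unusedSectionVars false
set_option linter.style.haveILetI false

namespace CfsgLib.DegreeThreeP

open MulAction

universe u v

/-- The standing hypothesis. -/
structure Hyp (p : ℕ) {G : Type u} [Group G] (Ω : Type v) [MulAction G Ω] (P : Sylow p G) :
    Prop where
  simple : IsSimpleGroup G
  nonabelian : ¬ IsMulCommutative G
  five : 5 ≤ p
  trans : IsPretransitive G Ω
  faith : FaithfulSMul G Ω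
  card_space : Nat.card Ω = 3 * p
  card_norm : Nat.card (Subgroup.normalizer ((P : Subgroup G) : Set G)) = 2 * p

variable {p : ℕ} [hpf : Fact p.Prime] {G : Type u} [Group G] [Fintype G] {Ω : Type v} [Fintype Ω]
  [MulAction G Ω] {P : Sylow p G} (h : Hyp p Ω P)

include h

theorem Hyp.odd : p % 2 = 1 := (hpf.out.eq_two_or_odd).resolve_left (by have := h.five; omega)

theorem Hyp.eq_bot_or_eq_top (K : Subgroup G) [K.Normal] : K = ⊥ ∨ K = ⊤ :=
  h.simple.eq_bot_or_eq_top_of_normal K inferInstance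

theorem Hyp.card_P : Nat.card (P : Subgroup G) = p := by
  have hpp : p.Prime := hpf.out
  set N := Subgroup.normalizer ((P : Subgroup G) : Set G)
  have hN : Nat.card N = 2 * p := h.card_norm
  have h1 : p ∣ Nat.card (P : Subgroup G) :=
    P.dvd_card_of_dvd_card ((dvd_mul_left p 2).trans (hN ▸ Subgroup.card_subgroup_dvd_card N))
  obtain ⟨n, hn⟩ := P.2.exists_card_eq
  have h2 : p ^ n ∣ 2 * p := hn ▸ hN ▸ Subgroup.card_dvd_of_le Subgroup.le_normalizer
  have := h.five
  rcases Nat.lt_or_ge n 2 with h' | h'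
  · rcases Nat.eq_zero_or_pos n with rfl | h0
    · rw [hn, pow_zero, Nat.dvd_one] at h1; omega
    · rw [hn, show n = 1 by omega, pow_one]
  · exfalso
    have h3 := (pow_dvd_pow p h').trans h2
    rw [pow_two] at h3
    have := Nat.le_of_dvd two_pos (Nat.dvd_of_mul_dvd_mul_right hpp.pos h3)
    omega

theorem Hyp.commutative_of_prime (hc : Nat.card G = p) : False := by
  haveI := isCyclic_of_prime_card hc
  exact h.nonabelian ⟨⟨fun a b => IsCyclic.commGroup.mul_comm a b⟩⟩

theorem Hyp.centralizer_P :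
    Subgroup.centralizer ((P : Subgroup G) : Set G) = (P : Subgroup G) := by
  have hpp : p.Prime := hpf.out
  haveI : IsMulCommutative (P : Subgroup G) := by
    haveI := isCyclic_of_prime_card h.card_P
    infer_instance
  set N := Subgroup.normalizer ((P : Subgroup G) : Set G) with hNdef
  have hPC : (P : Subgroup G) ≤ Subgroup.centralizer ((P : Subgroup G) : Set G) :=
    Subgroup.le_centralizer _
  have hCN : Subgroup.centralizer ((P : Subgroup G) : Set G) ≤ N :=
    Subgroup.centralizer_le_normalizer _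
  have hd := Subgroup.card_dvd_of_le hCN
  obtain ⟨j, hj⟩ := Subgroup.card_dvd_of_le hPC
  rw [h.card_P] at hj
  rw [hNdef, h.card_norm, hj, mul_comm 2 p] at hd
  rcases (Nat.dvd_prime Nat.prime_two).1 (Nat.dvd_of_mul_dvd_mul_left hpp.pos hd) with rfl | rfl
  · exact (Subgroup.eq_of_le_of_card_ge hPC (by rw [hj, h.card_P, mul_one])).symm
  · exfalso
    have hle : N ≤ Subgroup.centralizer ((P : Subgroup G) : Set G) :=
      (Subgroup.eq_of_le_of_card_ge hCN (by rw [hNdef, h.card_norm, hj, mul_comm])).ge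
    have hnd := MonoidHom.not_dvd_card_ker_transferSylow P hle
    have hc := (MonoidHom.ker_transferSylow_isComplement' P hle).card_mul_card
    rcases h.eq_bot_or_eq_top (MonoidHom.transferSylow P hle).ker with hb | hb
    · rw [hb, Subgroup.card_bot, one_mul, h.card_P] at hc
      exact h.commutative_of_prime hc.symm
    · rw [hb, Subgroup.card_top] at hnd
      exact hnd ((dvd_mul_left p 2).trans (h.card_norm ▸ Subgroup.card_subgroup_dvd_card N))

theorem Hyp.relIndex_P :
    (P : Subgroup G).relIndex (Subgroup.normalizer ((P : Subgroup G) : Set G)) = 2 := by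
  have hh := Subgroup.relIndex_mul_relIndex ⊥ (P : Subgroup G)
    (Subgroup.normalizer ((P : Subgroup G) : Set G)) bot_le Subgroup.le_normalizer
  rw [Subgroup.relIndex_bot_left, Subgroup.relIndex_bot_left, h.card_P, h.card_norm,
    mul_comm 2] at hh
  exact Nat.eq_of_mul_eq_mul_left hpf.out.pos hh

theorem Hyp.orderOf_mem {w : G} (hw : w ∈ (P : Subgroup G)) (h1 : w ≠ 1) : orderOf w = p :=
  CfsgLib.BlocksCyclic.orderOf_generator h.card_P hw h1

theorem Hyp.centralizer_mem {w : G} (hw : w ∈ (P : Subgroup G)) (h1 : w ≠ 1) :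
    Subgroup.centralizer ({w} : Set G) = (P : Subgroup G) := by
  rw [CfsgLib.BlocksCyclic.centralizer_generator h.card_P hw h1, h.centralizer_P]

theorem Hyp.zpowers_mem {w : G} (hw : w ∈ (P : Subgroup G)) (h1 : w ≠ 1) :
    Subgroup.zpowers w = (P : Subgroup G) :=
  Subgroup.eq_of_le_of_card_ge (Subgroup.zpowers_le.2 hw)
    (by rw [Nat.card_zpowers, h.orderOf_mem hw h1, h.card_P])

/-- A point fixed by a non-identity element of `P` is impossible. -/
theorem Hyp.free {w : G} (hw : w ∈ (P : Subgroup G)) (h1 : w ≠ 1) (b : Ω) : w • b ≠ b := by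
  intro hwb
  haveI := h.trans
  have hPb : (P : Subgroup G) ≤ stabilizer G b := by
    rw [← h.zpowers_mem hw h1, Subgroup.zpowers_le]
    exact hwb
  have hidx : (stabilizer G b).index = 3 * p := by
    rw [index_stabilizer_of_transitive, h.card_space]
  have h2 : p ∣ (P : Subgroup G).index := by
    refine dvd_trans ?_ (Subgroup.index_dvd_of_le hPb)
    rw [hidx]
    exact dvd_mul_left p 3
  exact P.not_dvd_index h2

/-- A `p`-singular element is conjugate into `P`. -/
theorem Hyp.singular_conj {g : G} (hg : p ∣ orderOf g) :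
    ∃ w ∈ (P : Subgroup G), w ≠ 1 ∧ IsConj g w := by
  have hp : p.Prime := hpf.out
  set k := g ^ (orderOf g / p)
  have ho : orderOf k = p := by
    rw [orderOf_pow_of_dvd (Nat.div_pos (Nat.le_of_dvd (orderOf_pos g) hg) hp.pos).ne'
      (Nat.div_dvd_of_dvd hg), Nat.div_div_self hg (orderOf_pos g).ne']
  obtain ⟨Q, hQ⟩ := (IsPGroup.of_card (p := p) (n := 1)
    (by rw [Nat.card_zpowers, ho, pow_one] : Nat.card (Subgroup.zpowers k) = p ^ 1)).exists_le_sylow
  obtain ⟨c, hc⟩ := MulAction.exists_smul_eq G Q P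
  have hmem : c * k * c⁻¹ ∈ (P : Subgroup G) := by
    rw [← hc]
    exact Subgroup.mem_map.2 ⟨k, hQ (Subgroup.mem_zpowers k), rfl⟩
  have hne : c * k * c⁻¹ ≠ 1 := fun e => by
    rw [conj_eq_one_iff.1 e, orderOf_one] at ho
    exact hp.ne_one ho.symm
  have hcg : c * g * c⁻¹ ∈ (P : Subgroup G) := by
    rw [← h.centralizer_mem hmem hne, Subgroup.mem_centralizer_singleton_iff]
    have : g * k = k * g := (Commute.self_pow g _).eq
    calc c * g * c⁻¹ * (c * k * c⁻¹) = c * (g * k) * c⁻¹ := by group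
      _ = c * k * c⁻¹ * (c * g * c⁻¹) := by rw [this]; group
  refine ⟨_, hcg, fun e => ?_, isConj_iff.2 ⟨c, rfl⟩⟩
  rw [conj_eq_one_iff.1 e, orderOf_one] at hg
  exact hp.not_dvd_one hg

theorem Hyp.singular_free {g : G} (hg : p ∣ orderOf g) (b : Ω) : g • b ≠ b := by
  obtain ⟨w, hw, h1, hc⟩ := h.singular_conj hg
  obtain ⟨c, rfl⟩ := isConj_iff.1 hc
  intro hb
  exact h.free hw h1 (c • b) (by rw [mul_smul, mul_smul, inv_smul_smul, hb])

theorem Hyp.perm_sign (g : G) [DecidableEq Ω] :
    Equiv.Perm.sign (MulAction.toPermHom G Ω g) = 1 := by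
  set f : G →* ℤˣ := Equiv.Perm.sign.comp (MulAction.toPermHom G Ω)
  rcases h.eq_bot_or_eq_top f.ker with hb | hb
  · exfalso
    refine h.nonabelian ⟨⟨fun a b => ?_⟩⟩
    refine (MonoidHom.ker_eq_bot_iff f).1 hb ?_
    rw [map_mul, map_mul, mul_comm]
  · have : g ∈ f.ker := by rw [hb]; trivial
    exact this

omit h in
/-- Fixed points of an involution of even sign. -/
theorem fix_mod_four {α : Type*} [Fintype α] [DecidableEq α] {σ : Equiv.Perm α} (h2 : σ ^ 2 = 1)
    (hs : Equiv.Perm.sign σ = 1) :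
    4 ∣ Fintype.card α - Nat.card (Function.fixedPoints σ) ∧
      Nat.card (Function.fixedPoints σ) ≤ Fintype.card α := by
  have hsupp : Fintype.card α - Nat.card (Function.fixedPoints σ) = σ.support.card ∧
      Nat.card (Function.fixedPoints σ) ≤ Fintype.card α := by
    have e : Nat.card (Function.fixedPoints σ) = σ.supportᶜ.card := by
      rw [← Nat.card_eq_finsetCard]
      exact Nat.card_congr (Equiv.subtypeEquivRight fun x => by
        simp [Function.mem_fixedPoints, Function.IsFixedPt])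
    rw [e, Finset.card_compl]
    have := Finset.card_le_univ σ.support
    omega
  refine ⟨?_, hsupp.2⟩
  rw [hsupp.1]
  have hct : ∀ n ∈ σ.cycleType, n = 2 := fun n hn => by
    have h1 := Equiv.Perm.dvd_of_mem_cycleType hn
    have h3 := orderOf_dvd_of_pow_eq_one h2
    have := Equiv.Perm.two_le_of_mem_cycleType hn
    have := Nat.le_of_dvd two_pos (h1.trans h3)
    omega
  have hrep : σ.cycleType = Multiset.replicate (Multiset.card σ.cycleType) 2 :=
    Multiset.eq_replicate_card.2 hct
  rw [Equiv.Perm.sign_of_cycleType, hrep, Multiset.sum_replicate, Multiset.card_replicate,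
    smul_eq_mul] at hs
  rw [← Equiv.Perm.sum_cycleType, hrep, Multiset.sum_replicate, smul_eq_mul]
  set k := Multiset.card σ.cycleType
  rcases Nat.even_or_odd k with ⟨j, hj⟩ | hk
  · exact ⟨j, by omega⟩
  · exfalso
    rw [Odd.neg_one_pow (by obtain ⟨j, hj⟩ := hk; exact ⟨k + j, by omega⟩)] at hs
    exact absurd hs (by decide)

/-- An element and an involution inverting it. -/
theorem Hyp.exists_inverting :
    ∃ x t : G, x ∈ (P : Subgroup G) ∧ x ≠ 1 ∧ orderOf t = 2 ∧ t * x * t⁻¹ = x⁻¹ := by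
  have hp : p.Prime := hpf.out
  obtain ⟨x, hxP, hx1⟩ := CfsgLib.BlocksCyclic.exists_generator h.card_P
  set N := Subgroup.normalizer ((P : Subgroup G) : Set G)
  haveI := Fact.mk Nat.prime_two
  obtain ⟨t, ht⟩ := exists_prime_orderOf_dvd_card' (G := N) 2
    (by rw [h.card_norm]; exact dvd_mul_right 2 p)
  have hto : orderOf (t : G) = 2 := by rw [Subgroup.orderOf_coe, ht]
  have hxo := h.orderOf_mem hxP hx1
  refine ⟨x, t, hxP, hx1, hto, ?_⟩
  have hm : (t : G) * x * (t : G)⁻¹ ∈ Subgroup.zpowers x := by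
    rw [h.zpowers_mem hxP hx1]
    exact (Subgroup.mem_normalizer_iff.1 t.2 x).1 hxP
  obtain ⟨k, hk⟩ := mem_powers_iff_mem_zpowers.2 hm
  have hk : x ^ k = (t : G) * x * (t : G)⁻¹ := hk
  have htt : (t : G) * t = 1 := by rw [← pow_two, ← hto, pow_orderOf_eq_one]
  have hkk : x ^ (k * k) = x ^ 1 := by
    rw [pow_mul, hk, conj_pow, hk, pow_one, ← mul_assoc, ← mul_assoc, htt, one_mul,
      inv_eq_of_mul_eq_one_right htt, mul_assoc, htt, mul_one]
  rw [pow_eq_pow_iff_modEq, hxo, ← ZMod.natCast_eq_natCast_iff, Nat.cast_mul, Nat.cast_one] at hkk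
  rcases mul_self_eq_one_iff.1 hkk with h' | h'
  · exfalso
    have hk1 : x ^ k = x ^ 1 := by
      rw [pow_eq_pow_iff_modEq, hxo, ← ZMod.natCast_eq_natCast_iff, h', Nat.cast_one]
    rw [pow_one, hk] at hk1
    have hmem : (t : G) ∈ Subgroup.centralizer ({x} : Set G) :=
      Subgroup.mem_centralizer_singleton_iff.2 (mul_inv_eq_iff_eq_mul.1 hk1)
    rw [h.centralizer_mem hxP hx1] at hmem
    have hd := Subgroup.orderOf_dvd_natCard (P : Subgroup G) hmem
    rw [hto, h.card_P] at hd
    have := (Nat.prime_dvd_prime_iff_eq Nat.prime_two hp).1 hd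
    have := h.five
    omega
  · rw [← hk, eq_inv_iff_mul_eq_one, ← pow_succ, ← orderOf_dvd_iff_pow_eq_one, hxo,
      ← ZMod.natCast_eq_zero_iff, Nat.cast_add, Nat.cast_one, h', neg_add_cancel]

/-- Involutions inverting the same element of `P` are conjugate. -/
theorem Hyp.isConj_inverting {x : G} (hxP : x ∈ (P : Subgroup G)) (hx1 : x ≠ 1) {a b : G}
    (haa : a * a = 1) (ha : a * x * a⁻¹ = x⁻¹) (hb : b * x * b⁻¹ = x⁻¹) : IsConj a b := by
  have hodd := h.odd
  have hxo := h.orderOf_mem hxP hx1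
  have hai : a⁻¹ = a := inv_eq_of_mul_eq_one_right haa
  have hw : a * b ∈ (P : Subgroup G) := by
    rw [← h.centralizer_mem hxP hx1, Subgroup.mem_centralizer_singleton_iff]
    have e1 : b * x = x⁻¹ * b := by rw [← hb]; group
    have e2 : a * x⁻¹ = x * a := by
      have h6 : a * x⁻¹ * a⁻¹ = x := by rw [← conj_inv, ha, inv_inv]
      exact mul_inv_eq_iff_eq_mul.1 h6
    rw [mul_assoc, e1, ← mul_assoc, e2, mul_assoc]
  rw [← h.zpowers_mem hxP hx1] at hw
  obtain ⟨k, hk⟩ := mem_powers_iff_mem_zpowers.2 hw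
  have hk : x ^ k = a * b := hk
  refine isConj_iff.2 ⟨(x ^ (k * ((p + 1) / 2)))⁻¹, ?_⟩
  have hpow : a * (x ^ (k * ((p + 1) / 2)))⁻¹ * a⁻¹ = x ^ (k * ((p + 1) / 2)) := by
    rw [← conj_inv, ← conj_pow, ha, inv_pow, inv_inv]
  have hsq : x ^ (k * ((p + 1) / 2)) * x ^ (k * ((p + 1) / 2)) = x ^ k := by
    rw [← pow_add, show k * ((p + 1) / 2) + k * ((p + 1) / 2) = k * p + k by
      rw [← mul_add, show (p + 1) / 2 + (p + 1) / 2 = p + 1 by omega]; ring, pow_add, pow_mul',
      ← hxo, pow_orderOf_eq_one, one_pow, one_mul]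
  have e3 : (x ^ (k * ((p + 1) / 2)))⁻¹ * a = a * x ^ (k * ((p + 1) / 2)) := by
    have h5 := congrArg (a * ·) hpow
    simp only [← mul_assoc, haa, one_mul, hai] at h5
    exact h5
  rw [inv_inv, e3, mul_assoc, hsq, hk, ← mul_assoc, haa, one_mul]

/-- The fixed points of an inverting involution: one when `p ≡ 3`, three when `p ≡ 1 mod 4`. -/
theorem Hyp.fix_inverting {x t : G} (hxP : x ∈ (P : Subgroup G)) (hx1 : x ≠ 1)
    (hto : orderOf t = 2) (htx : t * x * t⁻¹ = x⁻¹) :
    Nat.card (fixedBy Ω t) = if p % 4 = 1 then 3 else 1 := by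
  classical
  haveI := h.faith
  haveI := Fintype.ofFinite (orbitRel.Quotient (P : Subgroup G) Ω)
  have hodd := h.odd
  have hxo := h.orderOf_mem hxP hx1
  -- at most one fixed point in each orbit of `P`
  have horb : Nat.card (orbitRel.Quotient (P : Subgroup G) Ω) = 3 := by
    have hsz : ∀ b : Ω, Nat.card (orbit (P : Subgroup G) b) = p := by
      intro b
      rw [Nat.card_coe_set_eq, ← index_stabilizer]
      have : stabilizer (P : Subgroup G) b = ⊥ := by
        refine (Subgroup.eq_bot_iff_forall _).2 fun w hw => ?_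
        by_contra h1
        exact h.free w.2 (fun e => h1 (Subtype.ext e)) b hw
      rw [this, Subgroup.index_bot, h.card_P]
    have hsum : Nat.card Ω = ∑ q : orbitRel.Quotient (P : Subgroup G) Ω, Nat.card q.orbit := by
      rw [Nat.card_congr (selfEquivSigmaOrbits' (P : Subgroup G) Ω), Nat.card_sigma]
    rw [Finset.sum_congr rfl (g := fun _ => p) fun q _ => ?_, Finset.sum_const, Finset.card_univ,
      smul_eq_mul, h.card_space, ← Nat.card_eq_fintype_card] at hsum
    · exact (Nat.eq_of_mul_eq_mul_right hpf.out.pos hsum).symm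
    · rw [orbitRel.Quotient.orbit_eq_orbit_out q Quotient.out_eq']
      exact hsz _
  have hle : Nat.card (fixedBy Ω t) ≤ 3 := by
    rw [← horb]
    refine Nat.card_le_card_of_injective (fun b => Quotient.mk _ (b : Ω)) ?_
    rintro ⟨b, hb⟩ ⟨c, hc⟩ hbc
    obtain ⟨⟨w, hw⟩, hwc⟩ := Quotient.exact hbc
    have hwc : w • c = b := hwc
    refine Subtype.ext ?_
    by_contra hne
    have hw1 : w ≠ 1 := fun e => hne (show b = c by rw [← hwc, e, one_smul])
    have hz : w ∈ Subgroup.zpowers x := by rw [h.zpowers_mem hxP hx1]; exact hw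
    obtain ⟨k, hk⟩ := mem_powers_iff_mem_zpowers.2 hz
    have hk : x ^ k = w := hk
    have htw : t * w * t⁻¹ = w⁻¹ := by rw [← hk, ← conj_pow, htx, inv_pow]
    have h4 : w⁻¹ • c = b := by
      rw [← htw, mul_smul, mul_smul, inv_smul_eq_iff.2 (show t • c = c from hc).symm, hwc]
      exact hb
    have h5 : (w * w) • c = c := by rw [mul_smul, hwc, ← h4, smul_inv_smul]
    refine h.free (mul_mem hw hw) (fun e => hw1 ?_) c h5
    have h6 : p ∣ 2 := by
      rw [← h.orderOf_mem hw hw1]
      exact orderOf_dvd_of_pow_eq_one (by rw [pow_two, e])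
    have := Nat.le_of_dvd two_pos h6
    have := h.five
    omega
  have hsq : (MulAction.toPermHom G Ω t) ^ 2 = 1 := by
    rw [← map_pow, ← hto, pow_orderOf_eq_one, map_one]
  obtain ⟨h4, h4'⟩ := fix_mod_four hsq (h.perm_sign t)
  have e : Nat.card (Function.fixedPoints (MulAction.toPermHom G Ω t)) =
      Nat.card (fixedBy Ω t) := rfl
  rw [e, ← Nat.card_eq_fintype_card, h.card_space] at h4 h4'
  have := h.five
  split_ifs with hmod <;> omega

end CfsgLib.DegreeThreeP
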