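import Cfsg.Agent.DegreeThreeP.TwoPart
import Cfsg.Agent.TwoGroups.Models
import Cfsg.Agent.GW.Classification
import Mathlib.GroupTheory.SpecificGroups.KleinFour

/-!
# Degree `3 p`, `p ≡ 1` modulo four: the Sylow 2-subgroup

Every involution fixes three points.  A Sylow 2-subgroup `S` has order twice the 2-part of `p - 1`,
fixes a point `a`, has a central involution whose fixed points are permuted nontrivially, and has an
involution outside the centre.  With the Gorenstein–Walter theorem, order four or eight leaves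
`PSL(2, q)` and `A₇`.
-/

set_option autoImplicit false
set_option linter.unusedSectionVars false
set_option linter.style.haveILetI false

namespace CfsgLib.DegreeThreeP

open MulAction

universe u v

section General

variable {G : Type u} [Group G] {Ω : Type v} [Fintype Ω] [MulAction G Ω]

open scoped Classical in
/-- The orbit of a subgroup, as a finite set. -/
noncomputable def orb (H : Subgroup G) (x : Ω) : Finset Ω :=
  Finset.univ.filter fun y => ∃ g ∈ H, g • x = y

theorem mem_orb {H : Subgroup G} {x y : Ω} : y ∈ orb H x ↔ ∃ g ∈ H, g • x = y := by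
  classical
  simp [orb]

theorem orb_self (H : Subgroup G) (x : Ω) : x ∈ orb H x := mem_orb.2 ⟨1, one_mem _, one_smul _ _⟩

theorem orb_eq {H : Subgroup G} {x y : Ω} (hy : y ∈ orb H x) : orb H y = orb H x := by
  obtain ⟨g, hg, rfl⟩ := mem_orb.1 hy
  ext z
  constructor
  · intro hz
    obtain ⟨k, hk, rfl⟩ := mem_orb.1 hz
    exact mem_orb.2 ⟨k * g, mul_mem hk hg, mul_smul _ _ _⟩
  · intro hz
    obtain ⟨k, hk, rfl⟩ := mem_orb.1 hz
    exact mem_orb.2 ⟨k * g⁻¹, mul_mem hk (inv_mem hg), by rw [mul_smul, inv_smul_smul]⟩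

theorem coe_orb (H : Subgroup G) (x : Ω) : (orb H x : Set Ω) = orbit H x := by
  ext y
  simp only [Finset.mem_coe, mem_orb, mem_orbit_iff]
  exact ⟨fun ⟨g, hg, hgy⟩ => ⟨⟨g, hg⟩, hgy⟩, fun ⟨g, hgy⟩ => ⟨g.1, g.2, hgy⟩⟩

/-- Orbit-stabilizer. -/
theorem card_orb_mul (H : Subgroup G) [Finite H] (x : Ω) :
    (orb H x).card * Nat.card (H ⊓ stabilizer G x : Subgroup G) = Nat.card H := by
  have h1 : (orb H x).card = (stabilizer H x).index := by
    rw [index_stabilizer, ← coe_orb, Set.ncard_coe_finset]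
  have h2 : Nat.card (H ⊓ stabilizer G x : Subgroup G) = Nat.card (stabilizer H x) :=
    Nat.card_congr
      { toFun := fun g => ⟨⟨g.1, g.2.1⟩, g.2.2⟩
        invFun := fun g => ⟨g.1.1, g.1.2, g.2⟩
        left_inv := fun _ => rfl
        right_inv := fun _ => rfl }
  rw [h1, h2, mul_comm, Subgroup.card_mul_index]

/-- A free invariant set has cardinality divisible by the order. -/
theorem card_dvd_of_free [Finite G] (H : Subgroup G) (F : Finset Ω)
    (hinv : ∀ g ∈ H, ∀ x ∈ F, g • x ∈ F) (hfree : ∀ g ∈ H, ∀ x ∈ F, g • x = x → g = 1) :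
    Nat.card H ∣ F.card := by
  classical
  rw [Finset.card_eq_sum_card_image (fun x => orb H x) F]
  refine Finset.dvd_sum fun O hO => ?_
  obtain ⟨x, hx, rfl⟩ := Finset.mem_image.1 hO
  have hfib : F.filter (fun y => orb H y = orb H x) = orb H x := by
    ext y
    simp only [Finset.mem_filter]
    constructor
    · rintro ⟨-, hy⟩; exact hy ▸ orb_self H y
    · intro hy
      obtain ⟨g, hg, rfl⟩ := mem_orb.1 hy
      exact ⟨hinv g hg x hx, orb_eq hy⟩
  have hbot : H ⊓ stabilizer G x = ⊥ := by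
    rw [Subgroup.eq_bot_iff_forall]
    exact fun g hg => hfree g hg.1 x hx hg.2
  have h1 := card_orb_mul H x
  rw [hbot, Subgroup.card_bot, mul_one] at h1
  rw [hfib, h1]

/-- A nontrivial element of a 2-group has an involution among its powers. -/
theorem exists_involution_pow {H : Subgroup G} [Finite G] (hH : IsPGroup 2 H) {g : G} (hg : g ∈ H)
    (h1 : g ≠ 1) : ∃ n : ℕ, orderOf (g ^ n) = 2 ∧ g ^ n ∈ H := by
  obtain ⟨k, hk⟩ := IsPGroup.iff_orderOf.1 hH (⟨g, hg⟩ : H)
  rw [Subgroup.orderOf_mk] at hk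
  rcases k with _ | k
  · exact absurd (orderOf_eq_one_iff.1 (by rw [hk, pow_zero])) h1
  refine ⟨2 ^ k, ?_, pow_mem hg _⟩
  rw [orderOf_pow_of_dvd (by positivity) (by rw [hk, pow_succ]; exact dvd_mul_right _ _), hk,
    pow_succ, Nat.mul_div_cancel_left _ (by positivity)]

end General

/-- The facts on a Sylow 2-subgroup. -/
structure SylData (p : ℕ) {G : Type u} [Group G] {Ω : Type v} [MulAction G Ω] (S : Sylow 2 G)
    (a b : Ω) (z : G) : Prop where
  fix : ∀ g ∈ (S : Subgroup G), g • a = a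
  memz : z ∈ (S : Subgroup G)
  invol : orderOf z = 2
  central : ∀ g ∈ (S : Subgroup G), g * z = z * g
  ne : b ≠ a
  fixb : z • b = b
  moves : ∃ g ∈ (S : Subgroup G), g • b ≠ b
  card : Nat.card (S : Subgroup G) = 2 ^ ((p - 1).factorization 2 + 1)
  noncentral : ∃ s ∈ (S : Subgroup G), s * s = 1 ∧ ∃ y ∈ (S : Subgroup G), s * y ≠ y * s

/-- A nonabelian group of order eight with a noncentral involution is dihedral. -/
theorem dihedral_of_eight {S : Type u} [Group S] [Finite S] (h8 : Nat.card S = 8) {s y : S}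
    (hs : s * s = 1) (hsy : s * y ≠ y * s) : Nonempty (S ≃* DihedralGroup 4) := by
  have hnc : ∀ g : S, orderOf g ∣ 8 := fun g => h8 ▸ orderOf_dvd_natCard g
  have hne8 : ∀ g : S, orderOf g ≠ 8 := by
    intro g hg
    haveI := isCyclic_of_orderOf_eq_card g (hg.trans h8.symm)
    exact hsy (IsCyclic.commGroup.mul_comm s y)
  have key : ∀ a : S, orderOf a = 4 → s * a ≠ a * s → Nonempty (S ≃* DihedralGroup 4) := by
    intro a ha hsa
    have hnot : s ∉ Subgroup.zpowers a := by
      rintro ⟨j, rfl⟩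
      exact hsa ((Commute.refl a).zpow_left j).eq
    haveI : (Subgroup.zpowers a).Normal := Subgroup.normal_of_index_eq_two (by
      have := Subgroup.card_mul_index (Subgroup.zpowers a)
      rw [Nat.card_zpowers, ha, h8] at this
      omega)
    have hm : s * a * s⁻¹ ∈ Subgroup.zpowers a :=
      Subgroup.Normal.conj_mem inferInstance a (Subgroup.mem_zpowers a) s
    obtain ⟨k, hk⟩ := mem_powers_iff_mem_zpowers.2 hm
    have hk : a ^ k = s * a * s⁻¹ := hk
    have hk4 : a ^ (k % 4) = s * a * s⁻¹ := by rw [← ha, pow_mod_orderOf, hk]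
    have ho : orderOf (s * a * s⁻¹) = 4 := ((MulAut.conj s).orderOf_eq a).trans ha
    have hconj : s * a * s⁻¹ = a⁻¹ := by
      have : k % 4 < 4 := Nat.mod_lt _ (by norm_num)
      interval_cases h : k % 4
      · rw [← hk4, pow_zero, orderOf_one] at ho; omega
      · exfalso; apply hsa
        rw [pow_one] at hk4
        exact mul_inv_eq_iff_eq_mul.1 hk4.symm
      · rw [← hk4, orderOf_pow_of_dvd two_ne_zero (by rw [ha]; norm_num), ha] at ho; omega
      · rw [← hk4, eq_inv_iff_mul_eq_one, ← pow_succ, show 3 + 1 = orderOf a by omega,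
          pow_orderOf_eq_one]
    obtain ⟨e⟩ := CfsgLib.TwoGroups.nonempty_equiv_dihedral (H := ⊤) (Subgroup.mem_top a)
      (Subgroup.mem_top s) ha hs hconj hnot (by rw [Subgroup.card_top, h8])
    exact ⟨Subgroup.topEquiv.symm.trans e⟩
  have hdiv : ∀ g : S, orderOf g = 1 ∨ orderOf g = 2 ∨ orderOf g = 4 := by
    intro g
    have h1 := hnc g
    have h2 := hne8 g
    have h3 := Nat.le_of_dvd (by norm_num) h1
    interval_cases h : orderOf g <;> simp_all <;> omega
  rcases hdiv y with hy | hy | hy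
  · rw [orderOf_eq_one_iff.1 hy, mul_one, one_mul] at hsy; exact absurd rfl hsy
  · have hyy : y * y = 1 := by rw [← pow_two, ← hy, pow_orderOf_eq_one]
    have hne : s * (s * y) ≠ s * y * s := fun e => hsy (mul_left_cancel (e.trans (mul_assoc s y s)) ▸ rfl)
    rcases hdiv (s * y) with h' | h' | h'
    · exfalso; apply hne; rw [orderOf_eq_one_iff.1 h', mul_one, one_mul]
    · exfalso; apply hsy
      have : s * y * (s * y) = 1 := by rw [← pow_two, ← h', pow_orderOf_eq_one]
      calc s * y = (s * y)⁻¹ := (inv_eq_of_mul_eq_one_right this).symm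
        _ = y * s := by
          rw [mul_inv_rev, inv_eq_of_mul_eq_one_right hs, inv_eq_of_mul_eq_one_right hyy]
    · exact key _ h' hne
  · exact key y hy hsy

variable {p : ℕ} [hpf : Fact p.Prime] {G : Type u} [Group G] [Fintype G] {Ω : Type v} [Fintype Ω]
  [MulAction G Ω] {P : Sylow p G} (h : Hyp p Ω P)

include h

/-- The Sylow 2-subgroup when every involution fixes three points. -/
theorem Hyp.exists_sylData (hfix : ∀ u : G, orderOf u = 2 → fx Ω u = 3) (hp4 : p % 4 = 1)
    (hσ : (p - 1).factorization 2 + 1 ≤ (Nat.card G).factorization 2) :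
    ∃ (S : Sylow 2 G) (a b : Ω) (z : G), SylData p S a b z ∧
      (Nat.card G).factorization 2 = (p - 1).factorization 2 + 1 := by
  classical
  haveI := Fact.mk Nat.prime_two
  haveI := h.faith
  have h5 := h.five
  set ν := (p - 1).factorization 2 with hν
  have hν2 : 2 ≤ ν := (Nat.prime_two.pow_dvd_iff_le_factorization (k := 2) (by omega)).1
    (show 4 ∣ p - 1 by omega)
  obtain ⟨S⟩ : Nonempty (Sylow 2 G) := inferInstance
  have hS : Nat.card (S : Subgroup G) = 2 ^ (Nat.card G).factorization 2 := S.card_eq_multiplicity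
  obtain ⟨a, ha⟩ := S.2.nonempty_fixed_point_of_prime_not_dvd_card Ω (by
    rw [h.card_space]
    have := h.odd
    omega)
  have hfa : ∀ g ∈ (S : Subgroup G), g • a = a := fun g hg => ha ⟨g, hg⟩
  haveI : Nontrivial (S : Subgroup G) := by
    rw [← Finite.one_lt_card_iff_nontrivial, hS]
    exact Nat.one_lt_two_pow (by omega)
  haveI := S.2.center_nontrivial
  obtain ⟨⟨z0, hz0⟩, hz0ne⟩ := exists_ne (1 : Subgroup.center (S : Subgroup G))
  have hz1 : (z0 : G) ≠ 1 := fun e => hz0ne (Subtype.ext (Subtype.ext e))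
  obtain ⟨n, hzn, hznS⟩ := exists_involution_pow S.2 z0.2 hz1
  set z := (z0 : G) ^ n with hz
  have hcz : ∀ g ∈ (S : Subgroup G), g * z = z * g := fun g hg =>
    (Commute.pow_right (congrArg Subtype.val (Subgroup.mem_center_iff.1 hz0 ⟨g, hg⟩) :) n).eq
  set Φ := Finset.univ.filter (fun x : Ω => z • x = x) with hΦ
  have hΦm : ∀ x, x ∈ Φ ↔ z • x = x := fun x => by simp [hΦ]
  have hΦc : Φ.card = 3 := by
    rw [hΦ, ← Fintype.card_subtype, ← Nat.card_eq_fintype_card]
    exact hfix z hzn
  have haΦ : a ∈ Φ := (hΦm a).2 (hfa z hznS)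
  obtain ⟨b, hb⟩ : (Φ.erase a).Nonempty := Finset.card_pos.1 (by
    rw [Finset.card_erase_of_mem haΦ, hΦc]; norm_num)
  have hba : b ≠ a := Finset.ne_of_mem_erase hb
  have hbz : z • b = b := (hΦm b).1 (Finset.mem_of_mem_erase hb)
  have hSΦ : ∀ g ∈ (S : Subgroup G), ∀ x ∈ Φ, g • x ∈ Φ := by
    intro g hg x hx
    rw [hΦm] at hx ⊢
    rw [← mul_smul, ← hcz g hg, mul_smul, hx]
  set T : Subgroup G := (S : Subgroup G) ⊓ stabilizer G b with hT
  have hTfree : ∀ g ∈ T, ∀ x : Ω, x ∉ Φ → g • x = x → g = 1 := by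
    intro g hg x hx hgx
    by_contra h1
    obtain ⟨k, hk, hkS⟩ := exists_involution_pow S.2 hg.1 h1
    have hwx : g ^ k • x = x := pow_mem (show g ∈ stabilizer G x from hgx) k
    have hwb : g ^ k • b = b := pow_mem hg.2 k
    have hwa : g ^ k • a = a := hfa _ hkS
    set w := g ^ k
    set W := Finset.univ.filter (fun y : Ω => w • y = y) with hW
    have hWm : ∀ y, y ∈ W ↔ w • y = y := fun y => by simp [hW]
    have hWc : W.card = 3 := by
      rw [hW, ← Fintype.card_subtype, ← Nat.card_eq_fintype_card]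
      exact hfix w hk
    have hW' : W = {a, b, x} := by
      symm
      refine Finset.eq_of_subset_of_card_le ?_ ?_
      · simp [Finset.insert_subset_iff, hWm, hwa, hwb, hwx]
      · rw [hWc, Finset.card_eq_three.2 ⟨a, b, x, hba.symm, fun e => hx (e ▸ haΦ),
          fun e => hx (e ▸ Finset.mem_of_mem_erase hb), rfl⟩]
    have hzx : z • x ∈ W := by
      rw [hWm, ← mul_smul, hcz w hkS, mul_smul, hwx]
    rw [hW'] at hzx
    simp only [Finset.mem_insert, Finset.mem_singleton] at hzx
    rcases hzx with e | e | e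
    · exact hx ((MulAction.injective z (e.trans (hfa z hznS).symm)) ▸ haΦ)
    · exact hx ((MulAction.injective z (e.trans hbz.symm)) ▸ Finset.mem_of_mem_erase hb)
    · exact hx ((hΦm x).2 e)
  have hcompl : Φᶜ.card = 3 * (p - 1) := by
    rw [Finset.card_compl, hΦc, ← Nat.card_eq_fintype_card, h.card_space]
    omega
  have hfac : (3 * (p - 1)).factorization 2 = ν := by
    rw [fac_mul (by norm_num) (by omega), fac_odd (a := 3) rfl, zero_add]
  have hdiv : ∀ {k : ℕ}, 2 ^ k ∣ 3 * (p - 1) → k ≤ ν := fun {k} hk =>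
    hfac ▸ (Nat.prime_two.pow_dvd_iff_le_factorization (by omega)).1 hk
  obtain ⟨i, hi⟩ := (S.2.to_le (inf_le_left : T ≤ _)).exists_card_eq
  have hiν : i ≤ ν := hdiv (by
    rw [← hi, ← hcompl]
    refine card_dvd_of_free T _ (fun g hg x hx => ?_) fun g hg x hx => hTfree g hg x
      (Finset.mem_compl.1 hx)
    rw [Finset.mem_compl] at hx ⊢
    intro hgx
    refine hx ?_
    have := hSΦ g⁻¹ (inv_mem hg.1) _ hgx
    rwa [inv_smul_smul] at this)
  have horb := card_orb_mul (S : Subgroup G) b
  rw [← hT, hi, hS] at horb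
  have hobΦ : orb (S : Subgroup G) b ⊆ Φ.erase a := by
    intro y hy
    obtain ⟨g, hg, rfl⟩ := mem_orb.1 hy
    exact Finset.mem_erase.2 ⟨fun e => hba (MulAction.injective g (e.trans (hfa g hg).symm)),
      hSΦ g hg b (Finset.mem_of_mem_erase hb)⟩
  have ho2 : (orb (S : Subgroup G) b).card ≤ 2 := by
    refine (Finset.card_le_card hobΦ).trans ?_
    rw [Finset.card_erase_of_mem haΦ, hΦc]
  have hle : (Nat.card G).factorization 2 ≤ ν + 1 := by
    refine (Nat.pow_le_pow_iff_right (show 1 < 2 by norm_num)).1 ?_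
    rw [← horb, pow_succ']
    exact Nat.mul_le_mul ho2 (Nat.pow_le_pow_right (by norm_num) hiν)
  have hσ' : (Nat.card G).factorization 2 = ν + 1 := le_antisymm hle hσ
  rw [hσ'] at hS horb
  have hmoves : ∃ g ∈ (S : Subgroup G), g • b ≠ b := by
    by_contra hcon
    push Not at hcon
    have h1 : orb (S : Subgroup G) b ⊆ {b} := fun y hy => by
      obtain ⟨g, hg, rfl⟩ := mem_orb.1 hy
      simp [hcon g hg]
    have h2 := Finset.card_le_card h1
    rw [Finset.card_singleton] at h2
    have : 2 ^ (ν + 1) ≤ 1 * 2 ^ ν := horb ▸ Nat.mul_le_mul h2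
      (Nat.pow_le_pow_right (by norm_num) hiν)
    rw [one_mul, Nat.pow_le_pow_iff_right (by norm_num)] at this
    omega
  have hnf : ∃ d ∉ Φ, ∃ g ∈ (S : Subgroup G), g ≠ 1 ∧ g • d = d := by
    by_contra hcon
    push Not at hcon
    have := hdiv (k := ν + 1) (by
      rw [← hS, ← hcompl]
      refine card_dvd_of_free (S : Subgroup G) _ (fun g hg x hx => ?_) fun g hg x hx hgx => ?_
      · rw [Finset.mem_compl] at hx ⊢
        intro hgx
        refine hx ?_
        have := hSΦ g⁻¹ (inv_mem hg) _ hgx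
        rwa [inv_smul_smul] at this
      · by_contra h1
        exact hcon x (Finset.mem_compl.1 hx) g hg h1 hgx)
    omega
  obtain ⟨d, hd, g, hg, hg1, hgd⟩ := hnf
  obtain ⟨k, hk, hkS⟩ := exists_involution_pow S.2 hg hg1
  have hsd : g ^ k • d = d := pow_mem (show g ∈ stabilizer G d from hgd) k
  set s := g ^ k
  refine ⟨S, a, b, z, ⟨hfa, hznS, hzn, hcz, hba, hbz, hmoves, hS, s, hkS,
    by rw [← pow_two, ← hk, pow_orderOf_eq_one], ?_⟩, hσ'⟩
  by_contra hcon
  push Not at hcon
  set W := Finset.univ.filter (fun y : Ω => s • y = y) with hW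
  have hWm : ∀ y, y ∈ W ↔ s • y = y := fun y => by simp [hW]
  have hWc : W.card = 3 := by
    rw [hW, ← Fintype.card_subtype, ← Nat.card_eq_fintype_card]
    exact hfix s hk
  have ho : (orb (S : Subgroup G) d).card ≤ 2 := by
    refine (Finset.card_le_card (t := W.erase a) ?_).trans ?_
    · intro y hy
      obtain ⟨k', hk', rfl⟩ := mem_orb.1 hy
      refine Finset.mem_erase.2 ⟨fun e => ?_, ?_⟩
      · exact hd ((MulAction.injective k' (e.trans (hfa k' hk').symm)) ▸ haΦ)
      · rw [hWm, ← mul_smul, hcon k' hk', mul_smul, hsd]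
    · rw [Finset.card_erase_of_mem ((hWm a).2 (hfa s hkS)), hWc]
  have hst : Nat.card ((S : Subgroup G) ⊓ stabilizer G d : Subgroup G) ≤ 2 := by
    set K : Subgroup G := (S : Subgroup G) ⊓ stabilizer G d
    haveI : Finite K := inferInstance
    have hinj := Nat.card_le_card_of_injective (α := K)
      (β := (orb (S : Subgroup G) b : Finset Ω)) (fun k => ⟨k.1 • b, mem_orb.2 ⟨k.1, k.2.1, rfl⟩⟩)
      (by
        intro k1 k2 he
        have he' : k1.1 • b = k2.1 • b := congrArg Subtype.val he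
        have hm : k2.1⁻¹ * k1.1 ∈ T := by
          refine Subgroup.mem_inf.2 ⟨mul_mem (inv_mem (Subgroup.mem_inf.1 k2.2).1)
            (Subgroup.mem_inf.1 k1.2).1, ?_⟩
          show (k2.1⁻¹ * k1.1) • b = b
          rw [mul_smul, he', inv_smul_smul]
        have := hTfree _ hm d hd (by
          rw [mul_smul, show k1.1 • d = d from k1.2.2, inv_smul_eq_iff]
          exact (show k2.1 • d = d from k2.2.2).symm)
        exact Subtype.ext (inv_mul_eq_one.1 this).symm)
    rw [Nat.card_eq_finsetCard] at hinj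
    exact hinj.trans ho2
  have hmul := Nat.mul_le_mul ho hst
  rw [card_orb_mul, hS] at hmul
  have : 2 ^ 3 ≤ 2 ^ (ν + 1) := Nat.pow_le_pow_right (by norm_num) (by omega)
  omega

/-- Order four or eight gives `PSL(2, q)` or `A₇`. -/
theorem Hyp.psl_or_seven {δ : ℤ} {f : ℕ} {χ : Cfsg.IrrCharacter G}
    {Y : Finset (Cfsg.IrrCharacter G)} (hE : Exc p δ f χ Y) (hf : 1 < f)
    (hσ : (Nat.card G).factorization 2 = 2 ∨ (p % 4 = 1 ∧ (p - 1).factorization 2 = 2 ∧
      (Nat.card G).factorization 2 = 3)) :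
    CfsgLib.GW.IsPSLOrAltSeven G := by
  classical
  haveI := Fact.mk Nat.prime_two
  haveI := h.simple
  obtain ⟨x, t, hd⟩ := h.exists_dih
  have h2 : 2 ∣ Nat.card G := hd.invol ▸ orderOf_dvd_natCard t
  rcases hσ with hσ | ⟨hp4, hν, hσ⟩
  · obtain ⟨S⟩ : Nonempty (Sylow 2 G) := inferInstance
    have hS : Nat.card (S : Subgroup G) = 4 := by rw [S.card_eq_multiplicity, hσ]; norm_num
    haveI : IsKleinFour (S : Subgroup G) := by
      refine ⟨hS, ?_⟩
      haveI : Nontrivial (S : Subgroup G) := by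
        rw [← Finite.one_lt_card_iff_nontrivial, hS]; norm_num
      have hnc : ¬ IsCyclic (S : Subgroup G) := fun hcy =>
        haveI := hcy
        CfsgLib.Small.not_normalizer_le_centralizer h.nonabelian h2 S
          (IsCyclic.normalizer_le_centralizer ((Nat.minFac_eq_two_iff _).2 h2) inferInstance)
      rw [Monoid.exponent_eq_prime_iff Nat.prime_two]
      intro g hg
      have hdv : orderOf g ∣ 4 := hS ▸ orderOf_dvd_natCard g
      have h4 : orderOf g ≠ 4 := fun e => hnc (isCyclic_of_orderOf_eq_card g (e.trans hS.symm))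
      have := Nat.le_of_dvd (by norm_num) hdv
      have := orderOf_pos g
      have : orderOf g ≠ 1 := fun e => hg (orderOf_eq_one_iff.1 e)
      interval_cases hh : orderOf g <;> simp_all
    exact CfsgLib.GW.simple_dihedral S 2 le_rfl
      (IsKleinFour.nonempty_mulEquiv (G₁ := (S : Subgroup G)) (G₂ := DihedralGroup 2))
  · obtain ⟨S, a, b, z, hD, -⟩ := h.exists_sylData
      (fun u hu => by rw [h.fx_involution hE hf hu, if_pos hp4]) hp4 (by omega)
    obtain ⟨s, hs, hss, y, hy, hsy⟩ := hD.noncentral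
    exact CfsgLib.GW.simple_dihedral S 4 (by norm_num)
      (dihedral_of_eight (by rw [hD.card, hν]; norm_num) (s := ⟨s, hs⟩) (y := ⟨y, hy⟩)
        (Subtype.ext hss) fun e => hsy (congrArg Subtype.val e))

end CfsgLib.DegreeThreeP
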