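import Cfsg.Agent.DegreeThreeP.Formula
import Cfsg.Agent.Small.SylowArgs

/-!
# Degree `3 p`: the involution centralizer and the group order in each case

All involutions are conjugate, so the centralizer of one contains a Sylow 2-subgroup; with the
order equation this gives the order of the centralizer and of the group up to one parameter.
-/

set_option autoImplicit false
set_option linter.unusedSectionVars false
set_option linter.style.haveILetI false

namespace CfsgLib.DegreeThreeP

open MulAction CfsgLib.Characters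
open scoped ComplexConjugate

universe u v

/-- An element of `P` and an involution inverting it. -/
structure Dih {p : ℕ} {G : Type u} [Group G] (P : Sylow p G) (x t : G) : Prop where
  mem : x ∈ (P : Subgroup G)
  ne : x ≠ 1
  invol : orderOf t = 2
  inverts : t * x * t⁻¹ = x⁻¹

theorem fac_mul {a b : ℕ} (ha : a ≠ 0) (hb : b ≠ 0) :
    (a * b).factorization 2 = a.factorization 2 + b.factorization 2 := by
  rw [Nat.factorization_mul ha hb, Finsupp.add_apply]

theorem fac_odd {a : ℕ} (h : a % 2 = 1) : a.factorization 2 = 0 :=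
  Nat.factorization_eq_zero_of_not_dvd (by omega)

theorem fac_two_mul_odd {a : ℕ} (h : a % 2 = 1) : (2 * a).factorization 2 = 1 := by
  rw [fac_mul two_ne_zero (by omega), fac_odd h, Nat.prime_two.factorization_self]

theorem coprime_mul_add_one (a b : ℕ) : Nat.Coprime (a * b + 1) b :=
  Nat.coprime_of_dvd' fun _ _ h1 h2 => (Nat.dvd_add_right (h2.mul_left a)).1 h1

theorem coprime_of_sub {a b : ℕ} (h : a = b + 1) : Nat.Coprime a b := by
  rw [h, Nat.coprime_self_add_left]
  exact Nat.coprime_one_left b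

variable {p : ℕ} [hpf : Fact p.Prime] {G : Type u} [Group G] [Fintype G] {Ω : Type v} [Fintype Ω]
  [MulAction G Ω] {P : Sylow p G} (h : Hyp p Ω P)

include h

theorem Hyp.exists_dih : ∃ x t : G, Dih P x t := by
  obtain ⟨x, t, h1, h2, h3, h4⟩ := h.exists_inverting
  exact ⟨x, t, h1, h2, h3, h4⟩

theorem Hyp.reg_two {u : G} (hu : orderOf u = 2) : ¬ p ∣ orderOf u := by
  rw [hu]
  intro hd
  have := Nat.le_of_dvd two_pos hd
  have := h.five
  omega

theorem Hyp.fx_dih {x t : G} (hd : Dih P x t) : fx Ω t = if p % 4 = 1 then 3 else 1 :=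
  h.fix_inverting hd.mem hd.ne hd.invol hd.inverts

/-- The sum of a character over the normalizer of `P`. -/
theorem Hyp.sum_normalizer {x t : G} (hd : Dih P x t) (ψ : Cfsg.IrrCharacter G) {e : ℂ}
    (he : ∀ g : G, p ∣ orderOf g → (ψ : G → ℂ) g = e) :
    ∃ m : ℕ, (ψ : G → ℂ) 1 + ((p : ℂ) - 1) * e + (p : ℂ) * (ψ : G → ℂ) t =
      (2 : ℂ) * p * m := by
  classical
  set N := Subgroup.normalizer ((P : Subgroup G) : Set G) with hN
  haveI : Fintype N := Fintype.ofFinite _
  obtain ⟨k, hk⟩ := classInner_character_irr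
    (isCharacter_restrict N (isCharacter_of_isIrr ψ.2)) (isIrr_one (G := N))
  refine ⟨k, ?_⟩
  have hsum : ∑ g : N, (ψ : G → ℂ) g = (Nat.card N : ℂ) * k := by
    rw [← hk, Cfsg.classInner, ← mul_assoc, mul_inv_cancel₀ natCard_ne_zero, one_mul]
    exact Finset.sum_congr rfl fun w _ => by simp
  rw [show (Nat.card N : ℂ) = 2 * p by rw [hN, h.card_norm]; push_cast; ring] at hsum
  rw [← hsum]
  have htt : t * t = 1 := by rw [← pow_two, ← hd.invol, pow_orderOf_eq_one]
  have hti : t⁻¹ = t := inv_eq_of_mul_eq_one_right htt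
  have htN : t ∈ N := by
    rw [hN, Subgroup.mem_normalizer_iff]
    intro w
    rw [← h.zpowers_mem hd.mem hd.ne]
    have key : ∀ y : G, y ∈ Subgroup.zpowers x → t * y * t⁻¹ ∈ Subgroup.zpowers x := by
      intro y hy
      obtain ⟨j, rfl⟩ := hy
      refine ⟨-j, ?_⟩
      show x ^ (-j) = t * x ^ j * t⁻¹
      rw [← conj_zpow, hd.inverts, inv_zpow, zpow_neg]
    refine ⟨key w, fun hw => ?_⟩
    have h' := key _ hw
    rwa [hti, ← mul_assoc, ← mul_assoc, htt, one_mul, mul_assoc, htt, mul_one] at h'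
  have htP : t ∉ (P : Subgroup G) := by
    intro htP
    have h1 := h.orderOf_mem htP (fun e1 => by
      have := hd.invol
      rw [e1, orderOf_one] at this
      omega)
    rw [hd.invol] at h1
    have := h.five
    omega
  have hval : ∀ w ∈ (P : Subgroup G), (ψ : G → ℂ) (t * w) = (ψ : G → ℂ) t := by
    intro w hw
    refine (classFunction_isConj (isClassFunction_of_isIrr ψ.2)
      (h.isConj_inverting hd.mem hd.ne htt hd.inverts ?_)).symm
    have hc : w * x * w⁻¹ = x := by
      rw [← h.centralizer_mem hd.mem hd.ne, Subgroup.mem_centralizer_singleton_iff] at hw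
      rw [hw, mul_inv_cancel_right]
    calc t * w * x * (t * w)⁻¹ = t * (w * x * w⁻¹) * t⁻¹ := by group
      _ = x⁻¹ := by rw [hc, hd.inverts]
  haveI : Fintype (P : Subgroup G) := Fintype.ofFinite _
  have hinj : Function.Injective (fun s : (P : Subgroup G) ⊕ (P : Subgroup G) =>
      (Sum.elim (fun w => ⟨w.1, Subgroup.le_normalizer w.2⟩)
        (fun w => ⟨t * w.1, mul_mem htN (Subgroup.le_normalizer w.2)⟩) s : N)) := by
    rintro (a | a) (b | b) hab <;> simp only [Sum.elim_inl, Sum.elim_inr, Subtype.mk.injEq] at hab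
    · exact congrArg Sum.inl (Subtype.ext hab)
    · exfalso; apply htP
      have : t = a.1 * b.1⁻¹ := by rw [hab, mul_inv_cancel_right]
      rw [this]; exact mul_mem a.2 (inv_mem b.2)
    · exfalso; apply htP
      have : t = b.1 * a.1⁻¹ := by rw [← hab, mul_inv_cancel_right]
      rw [this]; exact mul_mem b.2 (inv_mem a.2)
    · exact congrArg Sum.inr (Subtype.ext (mul_left_cancel hab))
  have hbij := (Fintype.bijective_iff_injective_and_card _).2 ⟨hinj, by
    rw [Fintype.card_sum, ← Nat.card_eq_fintype_card, ← Nat.card_eq_fintype_card, h.card_P,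
      hN, h.card_norm]
    omega⟩
  rw [← Fintype.sum_bijective _ hbij (fun s => (ψ : G → ℂ) (Sum.elim (fun w => (w.1 : G))
      (fun w => t * w.1) s)) (fun g : N => (ψ : G → ℂ) g)
    (fun s => by rcases s with a | a <;> rfl), Fintype.sum_sum_type]
  simp only [Sum.elim_inl, Sum.elim_inr]
  rw [Finset.sum_congr rfl (s₂ := Finset.univ) (f := fun w : (P : Subgroup G) => (ψ : G → ℂ) (t * w))
    (g := fun _ => (ψ : G → ℂ) t) fun w _ => hval w w.2, Finset.sum_const, Finset.card_univ,
    ← Finset.add_sum_erase Finset.univ (fun w : (P : Subgroup G) => (ψ : G → ℂ) w)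
      (Finset.mem_univ 1),
    Finset.sum_congr rfl (s₁ := Finset.univ.erase (1 : (P : Subgroup G)))
      (g := fun _ => e) (fun w hw => he w ?_), Finset.sum_const,
    Finset.card_erase_of_mem (Finset.mem_univ _), Finset.card_univ, ← Nat.card_eq_fintype_card,
    h.card_P, nsmul_eq_mul, nsmul_eq_mul, Nat.cast_sub hpf.out.one_le, Nat.cast_one,
    OneMemClass.coe_one]
  rw [h.orderOf_mem w.2 fun e1 => Finset.ne_of_mem_erase hw (Subtype.ext e1)]

section

variable {δ : ℤ} {f : ℕ} {χ : Cfsg.IrrCharacter G} {Y : Finset (Cfsg.IrrCharacter G)}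
  (hE : Exc p δ f χ Y) (hf : 1 < f)

include hE hf

theorem Hyp.conj_all {x t : G} (hd : Dih P x t) {u : G} (hu : orderOf u = 2) : IsConj t u :=
  h.isConj_involution hE hf hd.mem hd.ne hd.invol hd.inverts hu

theorem Hyp.fx_involution {u : G} (hu : orderOf u = 2) :
    fx Ω u = if p % 4 = 1 then 3 else 1 := by
  obtain ⟨x, t, hd⟩ := h.exists_dih
  obtain ⟨c, rfl⟩ := isConj_iff.1 (h.conj_all hE hf hd hu)
  rw [← h.fx_dih hd]
  exact (Nat.card_congr
    { toFun := fun b => ⟨c • b.1, by
        show (c * t * c⁻¹) • (c • b.1) = c • b.1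
        rw [mul_smul, mul_smul, inv_smul_smul, show t • b.1 = b.1 from b.2]⟩
      invFun := fun b => ⟨c⁻¹ • b.1, by
        show t • (c⁻¹ • b.1) = c⁻¹ • b.1
        have hb : c • t • c⁻¹ • b.1 = b.1 := by
          rw [← mul_smul, ← mul_smul]; exact b.2
        exact eq_inv_smul_iff.2 hb⟩
      left_inv := fun b => Subtype.ext (inv_smul_smul c b.1)
      right_inv := fun b => Subtype.ext (smul_inv_smul c b.1) }).symm

/-- The centralizer of `t` has the full 2-part of the order. -/
theorem Hyp.fac_centralizer {x t : G} (hd : Dih P x t) :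
    (Nat.card (Subgroup.centralizer ({t} : Set G))).factorization 2 =
      (Nat.card G).factorization 2 ∧ 2 ≤ (Nat.card G).factorization 2 := by
  haveI := Fact.mk Nat.prime_two
  haveI := h.simple
  have h2 : 2 ∣ Nat.card G := hd.invol ▸ orderOf_dvd_natCard t
  refine ⟨le_antisymm ?_ ?_, ?_⟩
  · exact (Nat.factorization_le_iff_dvd Nat.card_pos.ne' Nat.card_pos.ne').2
      (Subgroup.card_subgroup_dvd_card _) 2
  · obtain ⟨S⟩ : Nonempty (Sylow 2 G) := inferInstance
    haveI : Nontrivial (S : Subgroup G) :=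
      (Subgroup.nontrivial_iff_ne_bot _).2 (S.ne_bot_of_dvd_card h2)
    haveI := S.2.center_nontrivial
    obtain ⟨z, hz⟩ := exists_prime_orderOf_dvd_card' (G := Subgroup.center (S : Subgroup G)) 2 (by
      obtain ⟨n, hn⟩ := (S.2.to_subgroup (Subgroup.center (S : Subgroup G))).exists_card_eq
      have h1 : 1 < Nat.card (Subgroup.center (S : Subgroup G)) := Finite.one_lt_card
      rcases n with _ | n
      · rw [hn, pow_zero] at h1; omega
      · rw [hn]; exact dvd_pow_self 2 n.succ_ne_zero)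
    have hzo : orderOf ((z : (S : Subgroup G)) : G) = 2 := by
      rw [Subgroup.orderOf_coe, Subgroup.orderOf_coe, hz]
    obtain ⟨c, hc⟩ := isConj_iff.1 (h.conj_all hE hf hd hzo)
    have hle : (S : Subgroup G).map (MulAut.conj c⁻¹).toMonoidHom ≤
        Subgroup.centralizer ({t} : Set G) := by
      rintro _ ⟨s, hs, rfl⟩
      rw [Subgroup.mem_centralizer_singleton_iff]
      have hcomm : s * ((z : (S : Subgroup G)) : G) = ((z : (S : Subgroup G)) : G) * s :=
        congrArg Subtype.val (Subgroup.mem_center_iff.1 z.2 ⟨s, hs⟩)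
      have ht : t = c⁻¹ * ((z : (S : Subgroup G)) : G) * c := by rw [← hc]; group
      show c⁻¹ * s * c⁻¹⁻¹ * t = t * (c⁻¹ * s * c⁻¹⁻¹)
      rw [ht, inv_inv]
      calc c⁻¹ * s * c * (c⁻¹ * ((z : (S : Subgroup G)) : G) * c)
          = c⁻¹ * (s * ((z : (S : Subgroup G)) : G)) * c := by group
        _ = c⁻¹ * (((z : (S : Subgroup G)) : G) * s) * c := by rw [hcomm]
        _ = c⁻¹ * ((z : (S : Subgroup G)) : G) * c * (c⁻¹ * s * c) := by group
    have hdvd := Subgroup.card_dvd_of_le hle
    rw [← Nat.card_congr (Subgroup.equivMapOfInjective _ _ (MulAut.conj c⁻¹).injective).toEquiv,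
      S.card_eq_multiplicity] at hdvd
    exact (Nat.prime_two.pow_dvd_iff_le_factorization Nat.card_pos.ne').1 hdvd
  · exact (Nat.prime_two.pow_dvd_iff_le_factorization (k := 2) Nat.card_pos.ne').1
      (CfsgLib.Small.four_dvd_card_of_simple h.nonabelian h2)

/-- The order equation with the number of involutions. -/
theorem Hyp.order_nat {x t : G} (hd : Dih P x t) {w : ℤ} (hw : (χ : G → ℂ) t = w) {a b : ℕ}
    (ha : (f : ℤ) + δ = a) (hb : (f : ℤ) - w = b) :
    p * Nat.card (Subgroup.centralizer ({t} : Set G)) *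
        Nat.card (Subgroup.centralizer ({t} : Set G)) * (f * a) = Nat.card G * (b * b) ∧
    p * Nat.card (Subgroup.centralizer ({t} : Set G)) * (f * a) =
        (Subgroup.centralizer ({t} : Set G)).index * (b * b) := by
  have hh := h.order_eq hE hf hd.mem hd.ne hd.invol hd.inverts hw
  rw [ha, hb] at hh
  have h1 : p * Nat.card (Subgroup.centralizer ({t} : Set G)) *
      Nat.card (Subgroup.centralizer ({t} : Set G)) * (f * a) = Nat.card G * (b * b) := by
    exact_mod_cast hh
  refine ⟨h1, Nat.eq_of_mul_eq_mul_left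
    (Nat.card_pos : 0 < Nat.card (Subgroup.centralizer ({t} : Set G))) ?_⟩
  rw [← Subgroup.card_mul_index (Subgroup.centralizer ({t} : Set G))] at h1
  rw [← mul_assoc, ← mul_assoc (Nat.card _) p, mul_comm (Nat.card _) p, h1]
  ring

end

/-- `p = 5` with sign `+1` is impossible. -/
theorem Hyp.false_of_plus {χ : Cfsg.IrrCharacter G} {Y : Finset (Cfsg.IrrCharacter G)}
    (hp5 : p = 5) (hE : Exc p 1 6 χ Y)
    (hπ : ∀ g : G, (fx Ω g : ℂ) = 1 + ∑ θ ∈ Y, (θ : G → ℂ) g) : False := by
  subst hp5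
  obtain ⟨x, t, hd⟩ := h.exists_dih
  have hcard := hE.card
  have hY : Y.card = 2 := by omega
  have hw : (χ : G → ℂ) t = ((0 : ℤ) : ℂ) := by
    have := hπ t
    rw [h.fx_dih hd, Finset.sum_congr rfl (fun θ hθ => hE.exc θ hθ t (h.reg_two hd.invol)),
      Finset.sum_const, hY, if_pos rfl, nsmul_eq_mul] at this
    push_cast at this ⊢
    linear_combination (-1 / 2 : ℂ) * this
  obtain ⟨h1, -⟩ := h.order_nat hE (by norm_num) hd hw (a := 7) (b := 6) (by norm_num) (by norm_num)
  obtain ⟨h2, h4⟩ := h.fac_centralizer hE (by norm_num) hd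
  set C := Nat.card (Subgroup.centralizer ({t} : Set G))
  set g := Nat.card G with hg
  have hC : C ≠ 0 := Nat.card_pos.ne'
  have hgne : g ≠ 0 := Nat.card_pos.ne'
  have h3 := congrArg (fun n : ℕ => n.factorization 2) h1
  rw [fac_mul (by positivity) (by norm_num), fac_mul (by positivity) hC, fac_mul (by norm_num) hC,
    fac_mul hgne (by norm_num), fac_odd (a := 5) rfl, h2,
    show (6 * 7 : ℕ) = 2 * 21 from rfl, fac_two_mul_odd rfl,
    show (6 * 6 : ℕ) = 2 * 2 * 9 from rfl, fac_mul (by norm_num) (by norm_num),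
    fac_mul two_ne_zero two_ne_zero, Nat.prime_two.factorization_self, fac_odd (a := 9) rfl] at h3
  omega

/-- Case `1 + χ`, `p ≡ 3` modulo four. -/
theorem Hyp.two_trans_three {χ : Cfsg.IrrCharacter G} {Y : Finset (Cfsg.IrrCharacter G)}
    (hE : Exc p (-1) (3 * p - 1) χ Y) (hπ : ∀ g : G, (fx Ω g : ℂ) = 1 + (χ : G → ℂ) g)
    (hp4 : p % 4 = 3) {x t : G} (hd : Dih P x t) :
    ∃ c : ℕ, c % 2 = 1 ∧ 3 ∣ c ∧
      Nat.card (Subgroup.centralizer ({t} : Set G)) = (3 * p - 1) * c ∧
      Nat.card G = p * (3 * p - 1) * (3 * p - 2) * (c * c) := by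
  have hp := hpf.out
  have h5 := h.five
  have hf : 1 < 3 * p - 1 := by omega
  have hw : (χ : G → ℂ) t = ((0 : ℤ) : ℂ) := by
    have := hπ t
    rw [h.fx_dih hd, if_neg (by omega)] at this
    push_cast at this ⊢
    linear_combination -this
  obtain ⟨h1, h1'⟩ := h.order_nat hE hf hd hw (a := 3 * p - 2) (b := 3 * p - 1) (by omega) (by omega)
  obtain ⟨h2, h4⟩ := h.fac_centralizer hE hf hd
  set C := Nat.card (Subgroup.centralizer ({t} : Set G))
  set I := (Subgroup.centralizer ({t} : Set G)).index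
  have e1 : p * C * (3 * p - 2) = I * (3 * p - 1) :=
    Nat.eq_of_mul_eq_mul_left (show 0 < 3 * p - 1 by omega) (by linear_combination h1')
  have hcp : Nat.Coprime (3 * p - 1) p := by
    rw [Nat.coprime_comm, hp.coprime_iff_not_dvd]
    intro hd'
    have h3 : p ∣ 3 * p := dvd_mul_left p 3
    have := Nat.dvd_sub h3 hd'
    rw [show 3 * p - (3 * p - 1) = 1 by omega, Nat.dvd_one] at this
    omega
  obtain ⟨c, hc⟩ : 3 * p - 1 ∣ C := by
    refine hcp.dvd_of_dvd_mul_left
      ((coprime_of_sub (by omega : 3 * p - 1 = 3 * p - 2 + 1)).dvd_of_dvd_mul_right ?_)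
    exact Dvd.intro_left I e1.symm
  have hG : Nat.card G = p * (3 * p - 1) * (3 * p - 2) * (c * c) := by
    refine (Nat.eq_of_mul_eq_mul_right (show 0 < (3 * p - 1) * (3 * p - 1) by positivity) ?_).symm
    rw [← h1, hc]
    ring
  have hC0 : C ≠ 0 := Nat.card_pos.ne'
  have hc0 : c ≠ 0 := fun e => hC0 (by rw [hc, e, mul_zero])
  have hf0 : 3 * p - 1 ≠ 0 := by omega
  have hf2 : 3 * p - 2 ≠ 0 := by omega
  refine ⟨c, ?_, ?_, hc, hG⟩
  · have e2 := h2
    rw [hG, hc, fac_mul hf0 hc0, fac_mul (by simp [hf0, hf2, hp.ne_zero]) (by simp [hc0]),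
      fac_mul (by simp [hf0, hp.ne_zero]) hf2, fac_mul hp.ne_zero hf0, fac_mul hc0 hc0,
      fac_odd h.odd, fac_odd (a := 3 * p - 2) (by have := h.odd; omega)] at e2
    have : c.factorization 2 = 0 := by omega
    rcases Nat.factorization_eq_zero_iff c 2 |>.1 this with h' | h' | h'
    · exact absurd Nat.prime_two h'
    · omega
    · exact absurd h' hc0
  · haveI := h.trans
    obtain ⟨b⟩ : Nonempty Ω := by
      rcases isEmpty_or_nonempty Ω with he | he
      · have := h.card_space
        rw [Nat.card_of_isEmpty] at this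
        omega
      · exact he
    have h3G : 3 ∣ Nat.card G := by
      refine dvd_trans ?_ (stabilizer G b).index_dvd_card
      rw [index_stabilizer_of_transitive, h.card_space]
      exact dvd_mul_right 3 p
    rw [hG] at h3G
    have h3 := Nat.prime_three
    rcases h3.dvd_mul.1 h3G with h' | h'
    · exfalso
      rcases h3.dvd_mul.1 h' with h'' | h''
      · rcases h3.dvd_mul.1 h'' with h6 | h6
        · have := (Nat.prime_dvd_prime_iff_eq h3 hp).1 h6; omega
        · omega
      · omega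
    · rcases h3.dvd_mul.1 h' with h'' | h'' <;> exact h''

/-- Case `1 + χ`, `p ≡ 1` modulo four, with `p - 1 = 2 r`. -/
theorem Hyp.two_trans_one {χ : Cfsg.IrrCharacter G} {Y : Finset (Cfsg.IrrCharacter G)}
    (hE : Exc p (-1) (3 * p - 1) χ Y) (hπ : ∀ g : G, (fx Ω g : ℂ) = 1 + (χ : G → ℂ) g)
    (hp4 : p % 4 = 1) {x t : G} (hd : Dih P x t) {r : ℕ} (hr : p = 2 * r + 1) :
    ∃ j : ℕ, j % 2 = 1 ∧ Nat.card (Subgroup.centralizer ({t} : Set G)) = 18 * (r * r) * j ∧
      Nat.card G = p * (3 * p - 1) * (3 * p - 2) * (9 * (r * r)) * (j * j) ∧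
      (Nat.card G).factorization 2 = 2 * (p - 1).factorization 2 - 1 := by
  have hp := hpf.out
  have h5 := h.five
  have hf : 1 < 3 * p - 1 := by omega
  have hw : (χ : G → ℂ) t = ((2 : ℤ) : ℂ) := by
    have := hπ t
    rw [h.fx_dih hd, if_pos hp4] at this
    push_cast at this ⊢
    linear_combination -this
  obtain ⟨h1, h1'⟩ := h.order_nat hE hf hd hw (a := 3 * p - 2) (b := 6 * r) (by omega) (by omega)
  obtain ⟨h2, h4⟩ := h.fac_centralizer hE hf hd
  set C := Nat.card (Subgroup.centralizer ({t} : Set G))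
  set I := (Subgroup.centralizer ({t} : Set G)).index
  have e0 : 3 * p - 1 = 2 * (3 * r + 1) := by omega
  have hcop1 : Nat.Coprime (3 * r + 1) r := coprime_mul_add_one 3 r
  have hcop1' : Nat.Coprime (3 * r + 1) 3 := by
    rw [mul_comm 3 r]; exact coprime_mul_add_one r 3
  have hr0 : 0 < r := by omega
  have hC0 : C ≠ 0 := Nat.card_pos.ne'
  have hc1 : Nat.Coprime p r := by
    rw [hr]; exact coprime_mul_add_one 2 r
  have hc2 : Nat.Coprime (6 * r + 1) r := coprime_mul_add_one 6 r
  have hc3 : Nat.Coprime p 3 := by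
    rw [Nat.coprime_comm, Nat.prime_three.coprime_iff_not_dvd]
    intro h'
    have := (Nat.prime_dvd_prime_iff_eq Nat.prime_three hp).1 h'
    omega
  have hc4 : Nat.Coprime (6 * r + 1) 3 := by
    rw [show 6 * r + 1 = 2 * r * 3 + 1 by ring]
    exact coprime_mul_add_one _ 3
  obtain ⟨j, hj⟩ : 18 * (r * r) ∣ C := by
    have hdvd : 18 * (r * r) ∣ (p * (3 * r + 1) * (6 * r + 1)) * C := by
      refine ⟨I, Nat.eq_of_mul_eq_mul_left (show 0 < 2 by norm_num) ?_⟩
      rw [show 3 * p - 2 = 6 * r + 1 by omega, e0] at h1'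
      linear_combination h1'
    have hodd : Nat.Coprime (p * (3 * r + 1) * (6 * r + 1)) 2 := by
      rw [Nat.coprime_comm, Nat.prime_two.coprime_iff_not_dvd]
      intro h'
      have hrev : r % 2 = 0 := by omega
      rcases Nat.prime_two.dvd_mul.1 h' with h6 | h6
      · rcases Nat.prime_two.dvd_mul.1 h6 with h7 | h7 <;> omega
      · omega
    refine (Nat.Coprime.dvd_of_dvd_mul_left (Nat.Coprime.symm ?_) hdvd)
    refine Nat.Coprime.mul_right ?_ (Nat.Coprime.mul_right
      ((hc1.mul_left hcop1).mul_left hc2) ((hc1.mul_left hcop1).mul_left hc2))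
    rw [show (18 : ℕ) = 2 * (3 * 3) from rfl]
    exact hodd.mul_right (((hc3.mul_left hcop1').mul_left hc4).mul_right
      ((hc3.mul_left hcop1').mul_left hc4))
  have hG : Nat.card G = p * (3 * p - 1) * (3 * p - 2) * (9 * (r * r)) * (j * j) := by
    refine (Nat.eq_of_mul_eq_mul_right (show 0 < 6 * r * (6 * r) by positivity) ?_).symm
    rw [← h1, hj]
    ring
  have hj0 : j ≠ 0 := fun e => hC0 (by rw [hj, e, mul_zero])
  have hv : (p - 1).factorization 2 = r.factorization 2 + 1 := by
    rw [show p - 1 = 2 * r by omega, fac_mul two_ne_zero hr0.ne',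
      Nat.prime_two.factorization_self, add_comm]
  have e2 := h2
  rw [hG, hj, fac_mul (by positivity) hj0, fac_mul (by norm_num) (by positivity),
    show (18 : ℕ) = 2 * 9 from rfl, fac_two_mul_odd (a := 9) rfl, fac_mul hr0.ne' hr0.ne',
    fac_mul (by simp [hr0.ne', hp.ne_zero]; omega) (by positivity),
    fac_mul (by simp [hp.ne_zero]; omega) (by positivity),
    fac_mul (by simp [hp.ne_zero]; omega) (by omega), fac_mul hp.ne_zero (by omega), fac_odd h.odd,
    e0, fac_two_mul_odd (by omega), fac_odd (a := 3 * p - 2) (by omega),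
    fac_mul (by norm_num) (by positivity), fac_odd (a := 9) rfl, fac_mul hr0.ne' hr0.ne',
    fac_mul hj0 hj0] at e2
  have hje : j.factorization 2 = 0 := by omega
  refine ⟨j, ?_, hj, hG, ?_⟩
  · rcases Nat.factorization_eq_zero_iff j 2 |>.1 hje with h' | h' | h'
    · exact absurd Nat.prime_two h'
    · omega
    · exact absurd h' hj0
  · rw [← h2, hj, fac_mul (by positivity) hj0, fac_mul (by norm_num) (by positivity),
      show (18 : ℕ) = 2 * 9 from rfl, fac_two_mul_odd (a := 9) rfl, fac_mul hr0.ne' hr0.ne', hje,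
      hv]
    omega

/-- Case `1 + χ + ξ`: the value at `t`, the centralizer and the order. -/
theorem Hyp.rank_three_order {χ ξ : Cfsg.IrrCharacter G} {Y : Finset (Cfsg.IrrCharacter G)}
    (hE : Exc p (-1) (2 * p - 1) χ Y) (hξ1 : ξ ≠ one G) (hξ2 : ξ ≠ χ) (hξ3 : ξ ∉ Y)
    (hξd : (ξ : G → ℂ) 1 = p)
    (hπ : ∀ g : G, (fx Ω g : ℂ) = 1 + (χ : G → ℂ) g + (ξ : G → ℂ) g) {x t : G} (hd : Dih P x t) :
    ∃ k : ℕ, k % 2 = 1 ∧
      Nat.card (Subgroup.centralizer ({t} : Set G)) = (2 * p - 2) * k ∧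
      Nat.card G = p * (2 * p - 1) * (2 * p - 2) * (k * k) ∧
      (Nat.card G).factorization 2 = (p - 1).factorization 2 + 1 := by
  have hp := hpf.out
  have h5 := h.five
  have hodd := h.odd
  have hf : 1 < 2 * p - 1 := by omega
  obtain ⟨mχ, hmχ⟩ := h.sum_normalizer hd χ hE.sing
  obtain ⟨mξ, hmξ⟩ := h.sum_normalizer hd ξ (fun g hg => hE.out ξ hξ1 hξ2 hξ3 g hg)
  rw [hE.degree, Nat.cast_sub (by omega : 1 ≤ 2 * p)] at hmχ
  rw [hξd] at hmξ
  push_cast at hmχ hmξ
  have hp0 : (p : ℂ) ≠ 0 := Nat.cast_ne_zero.2 hp.ne_zero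
  have hw : (χ : G → ℂ) t = ((2 * mχ - 1 : ℤ) : ℂ) := by
    refine mul_left_cancel₀ hp0 ?_
    push_cast
    linear_combination hmχ
  have hv : (ξ : G → ℂ) t = ((2 * mξ - 1 : ℤ) : ℂ) := by
    refine mul_left_cancel₀ hp0 ?_
    push_cast
    linear_combination hmξ
  have hsum := hπ t
  rw [h.fx_dih hd, hw, hv] at hsum
  have hsum' : ((if p % 4 = 1 then 3 else 1 : ℕ) : ℤ) = 1 + (2 * mχ - 1) + (2 * mξ - 1) := by
    exact_mod_cast hsum
  obtain ⟨h2, h4⟩ := h.fac_centralizer hE hf hd
  set C := Nat.card (Subgroup.centralizer ({t} : Set G)) with hCdef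
  set I := (Subgroup.centralizer ({t} : Set G)).index
  have hC0 : C ≠ 0 := Nat.card_pos.ne'
  have hCp : ¬ p ∣ C := by
    intro hd'
    obtain ⟨y, hy⟩ := exists_prime_orderOf_dvd_card'
      (G := Subgroup.centralizer ({t} : Set G)) p hd'
    have hyo : orderOf (y : G) = p := by rw [Subgroup.orderOf_coe, hy]
    obtain ⟨w, hwP, hw1, hc⟩ := h.singular_conj (g := (y : G)) (by rw [hyo])
    obtain ⟨d, hd''⟩ := isConj_iff.1 hc
    have hcomm := Subgroup.mem_centralizer_singleton_iff.1 y.2
    have hmem : d * t * d⁻¹ ∈ Subgroup.centralizer ({w} : Set G) := by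
      rw [Subgroup.mem_centralizer_singleton_iff, ← hd'']
      calc d * t * d⁻¹ * (d * y * d⁻¹) = d * (t * y) * d⁻¹ := by group
        _ = d * ((y : G) * t) * d⁻¹ := by rw [hcomm]
        _ = d * y * d⁻¹ * (d * t * d⁻¹) := by group
    rw [h.centralizer_mem hwP hw1] at hmem
    have hne : d * t * d⁻¹ ≠ 1 := fun e => by
      have := hd.invol
      rw [conj_eq_one_iff.1 e, orderOf_one] at this
      omega
    have := h.orderOf_mem hmem hne
    have h6 : orderOf (d * t * d⁻¹) = 2 := ((MulAut.conj d).orderOf_eq t).trans hd.invol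
    omega
  have hw1 : mχ = 1 := by
    rcases eq_or_ne mχ 0 with h0 | h0
    · exfalso
      subst h0
      obtain ⟨h1, -⟩ := h.order_nat hE hf hd hw (a := 2 * p - 2) (b := 2 * p) (by omega) (by omega)
      have hdp : p ∣ C * C * ((2 * p - 1) * (2 * p - 2)) := by
        refine ⟨Nat.card G * 4, Nat.eq_of_mul_eq_mul_left hp.pos ?_⟩
        linear_combination h1
      rcases hp.dvd_mul.1 hdp with h' | h'
      · rcases hp.dvd_mul.1 h' with h'' | h'' <;> exact hCp h''
      · have h3 : p ∣ 2 * p := dvd_mul_left p 2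
        rcases hp.dvd_mul.1 h' with h'' | h''
        · have := Nat.le_of_dvd (by omega) (Nat.dvd_sub h3 h'')
          omega
        · have := Nat.le_of_dvd (by omega) (Nat.dvd_sub h3 h'')
          omega
    · by_contra h1'
      split_ifs at hsum' with hp4
      swap
      · omega
      have hm2 : mχ = 2 := by omega
      subst hm2
      obtain ⟨h1, -⟩ := h.order_nat hE hf hd hw (a := 2 * p - 2) (b := 2 * (p - 2)) (by omega)
        (by omega)
      have h3 := congrArg (fun n : ℕ => n.factorization 2) h1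
      rw [fac_mul (by positivity) (by simp; omega), fac_mul (by positivity) hC0,
        fac_mul hp.ne_zero hC0, fac_mul Nat.card_pos.ne' (by simp; omega), fac_odd hodd, h2,
        fac_mul (by omega) (by omega), fac_odd (a := 2 * p - 1) (by omega),
        show 2 * p - 2 = 2 * (p - 1) by omega, fac_mul two_ne_zero (by omega),
        Nat.prime_two.factorization_self, fac_mul (by omega) (by omega),
        fac_two_mul_odd (a := p - 2) (by omega)] at h3
      omega
  subst hw1
  obtain ⟨h1, h1'⟩ := h.order_nat hE hf hd hw (a := 2 * p - 2) (b := 2 * p - 2) (by omega) (by omega)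
  have e1 : p * C * (2 * p - 1) = I * (2 * p - 2) :=
    Nat.eq_of_mul_eq_mul_left (show 0 < 2 * p - 2 by omega) (by linear_combination h1')
  have hcp : Nat.Coprime (2 * p - 2) p := by
    rw [Nat.coprime_comm, hp.coprime_iff_not_dvd]
    intro hd'
    have h3 : p ∣ 2 * p := dvd_mul_left p 2
    have := Nat.le_of_dvd (by omega) (Nat.dvd_sub h3 hd')
    omega
  obtain ⟨k, hk⟩ : 2 * p - 2 ∣ C := by
    refine hcp.dvd_of_dvd_mul_left
      ((coprime_of_sub (by omega : 2 * p - 1 = 2 * p - 2 + 1)).symm.dvd_of_dvd_mul_right ?_)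
    exact Dvd.intro_left I e1.symm
  have hG : Nat.card G = p * (2 * p - 1) * (2 * p - 2) * (k * k) := by
    refine (Nat.eq_of_mul_eq_mul_right (show 0 < (2 * p - 2) * (2 * p - 2) by
      have : 0 < 2 * p - 2 := by omega
      positivity) ?_).symm
    rw [← h1, ← hCdef, hk]
    ring
  have hk0 : k ≠ 0 := fun e => hC0 (by rw [hk, e, mul_zero])
  have hf1 : 2 * p - 1 ≠ 0 := by omega
  have hf2 : 2 * p - 2 ≠ 0 := by omega
  have hv2 : (2 * p - 2).factorization 2 = (p - 1).factorization 2 + 1 := by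
    rw [show 2 * p - 2 = 2 * (p - 1) by omega, fac_mul two_ne_zero (by omega),
      Nat.prime_two.factorization_self, add_comm]
  have e2 := h2
  rw [hG, hk, fac_mul hf2 hk0, fac_mul (by simp [hp.ne_zero, hf1, hf2]) (by simp [hk0]),
    fac_mul (by simp [hp.ne_zero, hf1]) hf2, fac_mul hp.ne_zero hf1, fac_mul hk0 hk0,
    fac_odd hodd, fac_odd (a := 2 * p - 1) (by omega)] at e2
  have hke : k.factorization 2 = 0 := by omega
  refine ⟨k, ?_, hk, hG, ?_⟩
  · rcases Nat.factorization_eq_zero_iff k 2 |>.1 hke with h' | h' | h'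
    · exact absurd Nat.prime_two h'
    · omega
    · exact absurd h' hk0
  · rw [← h2, hk, fac_mul hf2 hk0, hke, hv2, add_zero]

end CfsgLib.DegreeThreeP
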